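/-
Rational vectors of a three-dimensional unitary subfield structure.
-/
import Cfsg.Agent.Lib.MaxSub.SubfieldMaximalGU
import Cfsg.Agent.Lib.MaxSub.SU3Max.Basic

set_option autoImplicit false
set_option maxHeartbeats 800000
set_option linter.unusedSectionVars false

namespace CfsgLib.MaxSub.SU3Max.Sub

open Matrix Module Cfsg Cfsg.Geo CfsgLib.UnitaryTransvection CfsgLib.MaxSub.Rational
open CfsgLib.MaxSub.PairSU (IsT InT gl_ext exists_T)
open CfsgLib.MaxSub.SubfieldGU (RU IsR fixedField col_rat eq_sum_col h_rat frob_mem exists_eq_smul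
  eq_zero_of_values exists_tr_one kap_ne kap_mem kap_skew kap_mul_skew)

/-- An element of a finite field which is quadratic over a subfield of odd index lies in it. -/
theorem mem_of_quad {L : Type*} [Field L] [Fintype L] (S : Subfield L) {r : ℕ} (hr : Odd r)
    (hc : Fintype.card L = Nat.card S ^ r) {z D N : L} (hD : D ∈ S) (hN : N ∈ S)
    (hz : z * z - D * z + N = 0) : z ∈ S := by
  obtain ⟨p, hp⟩ := CharP.exists L
  haveI : Fintype S := Fintype.ofFinite _
  haveI : CharP S p := (RingHom.charP_iff _ S.subtype.injective p).2 hp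
  obtain ⟨d, hpp, hd⟩ := FiniteField.card S p
  haveI := Fact.mk hpp
  let φ : L →+* L := iterateFrobenius L p d
  have hφ : ∀ x : L, φ x = x ^ Nat.card S := fun x => by
    rw [Nat.card_eq_fintype_card, hd]; rfl
  have hfix : ∀ x ∈ S, φ x = x := fun x hx => by
    rw [hφ, Nat.card_eq_fintype_card]
    exact congrArg Subtype.val (FiniteField.pow_card (⟨x, hx⟩ : S))
  have hroot : ∀ w : L, w * w - D * w + N = 0 → w = z ∨ w = D - z := fun w hw => by
    rcases mul_eq_zero.1 (show (w - z) * (w - (D - z)) = 0 by linear_combination hw - hz) with e | e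
    · exact Or.inl (sub_eq_zero.1 e)
    · exact Or.inr (sub_eq_zero.1 e)
  have h1 : φ z * φ z - D * φ z + N = 0 := by
    have := congrArg φ hz
    rwa [map_add, map_sub, map_mul, map_mul, hfix D hD, hfix N hN, map_zero] at this
  rcases hroot _ h1 with e | e
  · exact CfsgLib.Aschbacher.mem_of_pow_card_eq (by rw [← hφ, e])
  have h2 : φ (φ z) = z := by rw [e, map_sub, hfix D hD, e]; ring
  have h3 : ∀ k : ℕ, (⇑φ)^[2 * k] z = z := fun k => by
    induction k with
    | zero => rfl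
    | succ k ih =>
      rw [show 2 * (k + 1) = (2 * k) + 2 by ring, Function.iterate_add_apply]
      show (⇑φ)^[2 * k] (φ (φ z)) = z
      rw [h2, ih]
  have h4 : (⇑φ)^[r] z = z := by
    have : ∀ k : ℕ, (⇑φ)^[k] z = z ^ Nat.card S ^ k := fun k => by
      induction k with
      | zero => simp
      | succ k ih => rw [Function.iterate_succ_apply', ih, hφ, ← pow_mul, ← pow_succ]
    rw [this, ← hc, FiniteField.pow_card]
  obtain ⟨j, hj⟩ := hr
  rw [hj, add_comm, Function.iterate_add_apply, h3] at h4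
  exact CfsgLib.Aschbacher.mem_of_pow_card_eq (by rw [← hφ]; exact h4)

variable {F : Type*} [Field F] [Fintype F] {q : ℕ} {hF : Fintype.card F = q ^ 2} {F₀ : Subfield F}
  {P : GL (Fin 3) F} {θ : F} {K : Subgroup (GL (Fin 3) F)}

local notation "V" => Fin 3 → F
local notation "h" => Cfsg.hermForm 3 F q
local notation "σ" => frob hF
local notation "Mn" => Matrix (Fin 3) (Fin 3) F
local notation "G" => Cfsg.GU 3 F q ⊓ specialLinear (Fin 3) F
local notation "κ" => (θ - frob hF θ)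

/-- The hypotheses on an overgroup. -/
structure Over (hF : Fintype.card F = q ^ 2) (F₀ : Subfield F) (P : GL (Fin 3) F) (θ : F) (r : ℕ)
    (K : Subgroup (GL (Fin 3) F)) : Prop where
  str : RU hF F₀ P θ
  prime : r.Prime
  odd : Odd r
  card : Fintype.card F = Nat.card F₀ ^ r
  le : K ≤ Cfsg.GU 3 F q ⊓ specialLinear (Fin 3) F
  ge : subfieldSubgroup F₀ P ⊓ (Cfsg.GU 3 F q ⊓ specialLinear (Fin 3) F) ≤ K

/-- The map keeps rational vectors rational. -/
def Pres (F₀ : Subfield F) (P : GL (Fin 3) F) (g : GL (Fin 3) F) : Prop :=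
  ∀ v : Fin 3 → F, IsR F₀ P v → IsR F₀ P ((g : Mn) *ᵥ v)

theorem mem_subfield_of_pres {g : GL (Fin 3) F} (hg : Pres F₀ P g) : g ∈ subfieldSubgroup F₀ P := by
  refine mem_of_maps fun u hu => ?_
  obtain ⟨w, hw, e⟩ := hg _ ⟨u, hu, rfl⟩
  exact ⟨w, hw, e.symm⟩

theorem mem_of_pres {r : ℕ} (O : Over hF F₀ P θ r K) {g : GL (Fin 3) F} (hg : Pres F₀ P g)
    (hgG : g ∈ G) : g ∈ K := O.ge ⟨mem_subfield_of_pres hg, hgG⟩

/-- Rational transvections. -/
theorem pres_isT (S : RU hF F₀ P θ) {u : V} (hu : IsR F₀ P u) {c : F} (hc : c ∈ F₀)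
    {g : GL (Fin 3) F} (hg : IsT q u c g) : Pres F₀ P g := fun v hv => by
  rw [hg v]
  exact hv.add (hu.smul (F₀.mul_mem hc (h_rat S hv hu)))

theorem inT_rat {r : ℕ} (O : Over hF F₀ P θ r K) {u : V} (hu : IsR F₀ P u) (huu : h u u = 0) {c : F}
    (hc : c ∈ F₀) (hs : c + σ c = 0) : InT q K u c := by
  obtain ⟨g, hg, hT⟩ := exists_T (hF := hF) huu hs
  exact ⟨g, mem_of_pres O (pres_isT O.str hu hc hT) hg, hT⟩

theorem inT_kap {r : ℕ} (O : Over hF F₀ P θ r K) {u : V} (hu : IsR F₀ P u) (huu : h u u = 0) {a : F}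
    (ha : a ∈ F₀) (hs : σ a = a) : InT q K u (κ * a) :=
  inT_rat O hu huu (F₀.mul_mem (kap_mem O.str) ha) (kap_mul_skew hs)

/-- An isotropic rational vector with a prescribed value on a rational vector. -/
theorem exists_iso1 (S : RU hF F₀ P θ) {v : V} (hv : IsR F₀ P v) (hv0 : v ≠ 0) {a : F} (ha : a ∈ F₀) :
    ∃ y, IsR F₀ P y ∧ h y y = 0 ∧ h y v = a := by
  let σ₀ : F₀ ≃+* F₀ :=
    { toFun := fun x => ⟨σ x, frob_mem x.2⟩
      invFun := fun x => ⟨σ x, frob_mem x.2⟩
      left_inv := fun x => Subtype.ext (frob_frob hF _)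
      right_inv := fun x => Subtype.ext (frob_frob hF _)
      map_mul' := fun x y => Subtype.ext (map_mul σ _ _)
      map_add' := fun x y => Subtype.ext (map_add σ _ _) }
  let cv : (Fin 3 → F₀) → V := fun u => (P : Mn) *ᵥ fun j => (u j : F)
  have hcv : ∀ u, IsR F₀ P (cv u) := fun u => ⟨_, fun j => (u j).2, rfl⟩
  have hadd : ∀ x y, cv (x + y) = cv x + cv y := fun x y => by
    show (P : Mn) *ᵥ _ = (P : Mn) *ᵥ _ + (P : Mn) *ᵥ _
    rw [← Matrix.mulVec_add]
    rfl
  have hsmul : ∀ (c : F₀) (x : Fin 3 → F₀), cv (c • x) = (c : F) • cv x := fun c x => by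
    show (P : Mn) *ᵥ _ = (c : F) • ((P : Mn) *ᵥ _)
    rw [← Matrix.mulVec_smul]
    rfl
  let f₀ : (Fin 3 → F₀) → (Fin 3 → F₀) → F₀ := fun u w => ⟨h (cv u) (cv w), h_rat S (hcv u) (hcv w)⟩
  have hf : IsUnitaryForm σ₀ f₀ :=
    { ne_refl := fun e => S.moved (congrArg Subtype.val (RingEquiv.congr_fun e ⟨θ, S.mem⟩))
      involutive := fun x => Subtype.ext (frob_frob hF _)
      add_left := fun x y w => Subtype.ext (by
        show h (cv (x + y)) _ = _ + _
        rw [hadd, h_add_left])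
      smul_left := fun c x w => Subtype.ext (by
        show h (cv (c • x)) _ = _ * _
        rw [hsmul, h_smul_left])
      herm := fun x w => Subtype.ext (h_swap hF _ _).symm
      nondegenerate := fun x hx => by
        have hx0 : cv x ≠ 0 := fun e => hx (funext fun j => Subtype.ext (congrFun
          (Matrix.mulVec_injective_iff_isUnit.2 P.isUnit (e.trans (Matrix.mulVec_zero _).symm)) j))
        obtain ⟨i, hi⟩ : ∃ i, h (SubfieldGU.col P i) (cv x) ≠ 0 := by
          by_contra hc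
          push Not at hc
          exact hx0 (eq_zero_of_values (hF := hF) (P := P) hc)
        have he : cv (Pi.single i 1) = SubfieldGU.col P i := by
          show _ *ᵥ _ = _ *ᵥ _
          congr 1
          funext j
          by_cases hj : j = i
          · subst hj; simp
          · simp [hj]
        refine ⟨⟨Pi.single i 1, fun e => hi ?_⟩, ⟨Pi.single i 1, fun e => hi ?_⟩⟩
        · rw [← he]; exact congrArg Subtype.val e
        · rw [← h_swap hF, ← he]
          exact (congrArg σ (congrArg Subtype.val e)).trans (map_zero _) }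
  obtain ⟨u, hu, hue⟩ := hv
  let w : Fin 1 → (Fin 3 → F₀) := fun _ j => ⟨u j, hu j⟩
  have hw0 : w 0 ≠ 0 := fun e => hv0 (by
    rw [← hue, show u = 0 from funext fun j => congrArg Subtype.val (congrFun e j), Matrix.mulVec_zero])
  have hlin : LinearIndependent F₀ w := linearIndependent_unique_iff.2 hw0
  obtain ⟨z, hz, hza⟩ := Herm.exists_iso_values_of hf hlin (Or.inl (by omega)) fun _ => ⟨a, ha⟩
  refine ⟨cv z, hcv z, congrArg Subtype.val hz, ?_⟩
  rw [← hue]
  exact congrArg Subtype.val (hza 0)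

/-- A rational hyperbolic frame. -/
structure Fr (hF : Fintype.card F = q ^ 2) (F₀ : Subfield F) (P : GL (Fin 3) F) (e f c : Fin 3 → F)
    (μ : F) : Prop where
  re : IsR F₀ P e
  rf : IsR F₀ P f
  rc : IsR F₀ P c
  ee : h e e = 0
  ff : h f f = 0
  ef : h e f = 1
  ce : h c e = 0
  cf : h c f = 0
  cc : h c c ≠ 0
  mem : μ ∈ F₀
  tr : μ + frob hF μ = -h c c

namespace Fr

variable {e f c : Fin 3 → F} {μ : F}

theorem fe (B : Fr hF F₀ P e f c μ) : h f e = 1 := by rw [← h_swap hF, B.ef, map_one]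
theorem ec (B : Fr hF F₀ P e f c μ) : h e c = 0 := (h_eq_zero_swap hF).1 B.ce
theorem fc (B : Fr hF F₀ P e f c μ) : h f c = 0 := (h_eq_zero_swap hF).1 B.cf
theorem e_ne (B : Fr hF F₀ P e f c μ) : e ≠ 0 := ne_zero_of_h_ne hF (by rw [B.ef]; exact one_ne_zero)
theorem f_ne (B : Fr hF F₀ P e f c μ) : f ≠ 0 := ne_zero_of_h_ne hF (by rw [B.fe]; exact one_ne_zero)

theorem mu_ne (B : Fr hF F₀ P e f c μ) : μ ≠ 0 := fun e0 => B.cc (by
  have := B.tr
  rw [e0, map_zero, add_zero, eq_comm, neg_eq_zero] at this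
  exact this)

/-- The third isotropic vector. -/
theorem y_rat (B : Fr hF F₀ P e f c μ) : IsR F₀ P (c + (e + μ • f)) := B.rc.add (B.re.add (B.rf.smul B.mem))

theorem y_iso (B : Fr hF F₀ P e f c μ) : h (c + (e + μ • f)) (c + (e + μ • f)) = 0 := by
  simp only [h_add_left, h_add_right hF, h_smul_left, h_smul_right hF, B.ee, B.ff, B.ef, B.fe, B.ce, B.cf,
    B.ec, B.fc]
  linear_combination B.tr

theorem y_e (B : Fr hF F₀ P e f c μ) : h (c + (e + μ • f)) e = μ := by
  simp only [h_add_left, h_smul_left, B.ee, B.fe, B.ce]; ring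

theorem y_f (B : Fr hF F₀ P e f c μ) : h (c + (e + μ • f)) f = 1 := by
  simp only [h_add_left, h_smul_left, B.ef, B.ff, B.cf]; ring

theorem y_c (B : Fr hF F₀ P e f c μ) : h (c + (e + μ • f)) c = h c c := by
  simp only [h_add_left, h_smul_left, B.ec, B.fc]; ring

theorem y_ne (B : Fr hF F₀ P e f c μ) : c + (e + μ • f) ≠ 0 :=
  ne_zero_of_h_ne hF (by rw [B.y_c]; exact B.cc)

/-- Coordinates of rational vectors. -/
theorem coords (B : Fr hF F₀ P e f c μ) (S : RU hF F₀ P θ) {v : V} (hv : IsR F₀ P v) :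
    ∃ α ∈ F₀, ∃ β ∈ F₀, ∃ γ ∈ F₀, v = α • c + (β • e + γ • f) :=
  ⟨_, F₀.div_mem (h_rat S hv B.rc) (h_rat S B.rc B.rc), _, h_rat S hv B.rf, _, h_rat S hv B.re,
    expand (hF := hF) B.cc B.ee B.ff B.ef B.ec B.fc v⟩

end Fr

/-- Every isotropic rational vector is part of a frame. -/
theorem exists_fr (S : RU hF F₀ P θ) {e : V} (he : IsR F₀ P e) (hee : h e e = 0) (he0 : e ≠ 0) :
    ∃ f c μ, Fr hF F₀ P e f c μ := by
  obtain ⟨f, hf, hff, hfe⟩ := exists_iso1 S he he0 F₀.one_mem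
  have hef : h e f = 1 := by rw [← h_swap hF, hfe, map_one]
  obtain ⟨c, hc, hce, hcf, hc0⟩ : ∃ c, IsR F₀ P c ∧ h c e = 0 ∧ h c f = 0 ∧ c ≠ 0 := by
    by_contra hn
    push Not at hn
    have hall : ∀ i, SubfieldGU.col P i = h (SubfieldGU.col P i) f • e + h (SubfieldGU.col P i) e • f := fun i => by
      have := hn (SubfieldGU.col P i - (h (SubfieldGU.col P i) f • e + h (SubfieldGU.col P i) e • f))
        ((col_rat i).sub ((he.smul (h_rat S (col_rat i) hf)).add (hf.smul (h_rat S (col_rat i) he))))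
        (by simp only [h_sub_left, h_add_left, h_smul_left, hee, hfe]; ring)
        (by simp only [h_sub_left, h_add_left, h_smul_left, hef, hff]; ring)
      exact sub_eq_zero.1 this
    have htop : (⊤ : Submodule F V) ≤ Submodule.span F (Set.range ![e, f]) := fun v _ => by
      rw [eq_sum_col P v]
      refine Submodule.sum_mem _ fun i _ => Submodule.smul_mem _ _ ?_
      rw [hall i]
      exact Submodule.add_mem _ (Submodule.smul_mem _ _ (Submodule.subset_span ⟨0, rfl⟩))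
        (Submodule.smul_mem _ _ (Submodule.subset_span ⟨1, rfl⟩))
    have h1 := (Submodule.finrank_mono htop).trans (finrank_range_le_card ![e, f])
    rw [finrank_top, Module.finrank_fintype_fun_eq_card, Fintype.card_fin, Fintype.card_fin] at h1
    omega
  have hcc : h c c ≠ 0 := fun hcc => by
    obtain ⟨τ, hτ, hF'⟩ := CfsgLib.Aschbacher.exists_unitary_hermForm (n := 3) hF
    refine SLThree.not_li_iso hF' hcc hee hce (LinearIndependent.pair_iff.2 fun s t est => ?_)
    have h1 := congrArg (fun z => h z f) est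
    simp only [h_add_left, h_smul_left, hcf, hef, h_zero_left hF] at h1
    have ht : t = 0 := by linear_combination h1
    rw [ht, zero_smul, add_zero, smul_eq_zero] at est
    exact ⟨est.resolve_right hc0, ht⟩
  obtain ⟨ξ, hξ, hξ1⟩ := exists_tr_one S
  refine ⟨f, c, -h c c * ξ, he, hf, hc, hee, hff, hef, hce, hcf, hcc,
    F₀.mul_mem (F₀.neg_mem (h_rat S hc hc)) hξ, ?_⟩
  rw [map_mul, map_neg, h_swap hF]
  linear_combination (-h c c) * hξ1

theorem exists_rat_iso (S : RU hF F₀ P θ) : ∃ e, IsR F₀ P e ∧ h e e = 0 ∧ e ≠ 0 := by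
  have hc0 : (SubfieldGU.col P (0 : Fin 3) : V) ≠ 0 := fun e => by
    have h1 := Matrix.mulVec_injective_iff_isUnit.2 P.isUnit (e.trans (Matrix.mulVec_zero _).symm)
    simpa using congrFun h1 0
  obtain ⟨v, hv, hvv, hvc⟩ := exists_iso1 S (col_rat 0) hc0 F₀.one_mem
  exact ⟨v, hv, hvv, ne_zero_of_h_ne hF (by rw [hvc]; exact one_ne_zero)⟩

/-- A non-rational isotropic vector has a non-rational norm on an isotropic rational vector. -/
theorem exists_norm_notin {r : ℕ} (S : RU hF F₀ P θ) (hr : Odd r)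
    (hc : Fintype.card F = Nat.card F₀ ^ r) {x : V}
    (hx : ∀ (c : F) w, IsR F₀ P w → x ≠ c • w) :
    ∃ e, IsR F₀ P e ∧ h e e = 0 ∧ h e x * σ (h e x) ∉ F₀ := by
  by_contra hn
  push Not at hn
  obtain ⟨e0, he0, he00, hne0⟩ := exists_rat_iso S
  obtain ⟨f, c, μ, B⟩ := exists_fr S he0 he00 hne0
  -- the values on two isotropic vectors are proportional
  have hprop : ∀ {v w : V}, IsR F₀ P v → h v v = 0 → IsR F₀ P w → h w w = 0 → h w v ≠ 0 → h v x ≠ 0 →
      h w x / h v x ∈ F₀ := by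
    intro v w hv hvv hw hww hwv hvx
    set m := h w v
    set k := κ / m with hk
    have hm : m ∈ F₀ := h_rat S hw hv
    have hkm : k ∈ F₀ := F₀.div_mem (kap_mem S) hm
    have hσm : σ m ≠ 0 := (map_ne_zero _).2 hwv
    have hiso : h (w + σ k • v) (w + σ k • v) = 0 := by
      have hvw : h v w = σ m := (h_swap hF _ _).symm
      simp only [h_add_left, h_add_right hF, h_smul_left, h_smul_right hF, hvv, hww, hvw, frob_frob hF]
      show _ = (0 : F)
      rw [show h w v = m from rfl, hk, map_div₀, div_mul_cancel₀ _ hσm, kap_skew]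
      field_simp
      ring
    have h1 := hn _ (hw.add (hv.smul (frob_mem (hF := hF) hkm))) hiso
    have h2 := hn _ hw hww
    have h3 := hn _ hv hvv
    rw [h_add_left, h_smul_left] at h1
    set b := h w x
    set d := h v x
    have hD : b * k * σ d + σ (b * k * σ d) ∈ F₀ := by
      have := F₀.sub_mem (F₀.sub_mem h1 h2) (F₀.mul_mem (F₀.mul_mem (frob_mem (hF := hF) hkm) hkm) h3)
      convert this using 1
      simp only [map_add, map_mul, frob_frob hF]
      ring
    have hN : b * k * σ d * σ (b * k * σ d) ∈ F₀ := by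
      have := F₀.mul_mem (F₀.mul_mem h2 h3) (F₀.mul_mem hkm (frob_mem (hF := hF) hkm))
      convert this using 1
      simp only [map_mul, frob_frob hF]
      ring
    have hz := mem_of_quad F₀ hr hc hD hN (z := b * k * σ d) (by ring)
    have hd : d * σ d ≠ 0 := mul_ne_zero hvx ((map_ne_zero _).2 hvx)
    have hk0 : k ≠ 0 := div_ne_zero (kap_ne S) hwv
    rw [show b / d = b * k * σ d / (k * (d * σ d)) by
      rw [div_eq_div_iff hvx (mul_ne_zero hk0 hd)]; ring]
    exact F₀.div_mem hz (F₀.mul_mem hkm h3)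
  set y := c + (e0 + μ • f) with hy
  -- some value does not vanish
  obtain ⟨d, hd0, hall⟩ : ∃ d, d ≠ 0 ∧ h e0 x / d ∈ F₀ ∧ h f x / d ∈ F₀ ∧ h y x / d ∈ F₀ := by
    by_cases h1 : h e0 x = 0
    · by_cases h2 : h f x = 0
      · by_cases h3 : h y x = 0
        · exact ⟨1, one_ne_zero, by rw [h1, zero_div]; exact F₀.zero_mem, by
            rw [h2, zero_div]; exact F₀.zero_mem, by rw [h3, zero_div]; exact F₀.zero_mem⟩
        · exact ⟨h y x, h3, by rw [h1, zero_div]; exact F₀.zero_mem, by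
            rw [h2, zero_div]; exact F₀.zero_mem, by rw [div_self h3]; exact F₀.one_mem⟩
      · refine ⟨h f x, h2, by rw [h1, zero_div]; exact F₀.zero_mem, by
          rw [div_self h2]; exact F₀.one_mem, hprop B.rf B.ff B.y_rat B.y_iso ?_ h2⟩
        rw [B.y_f]; exact one_ne_zero
    · exact ⟨h e0 x, h1, by rw [div_self h1]; exact F₀.one_mem,
        hprop B.re B.ee B.rf B.ff (by rw [B.fe]; exact one_ne_zero) h1,
        hprop B.re B.ee B.y_rat B.y_iso (by rw [B.y_e]; exact B.mu_ne) h1⟩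
  obtain ⟨he, hf', hy'⟩ := hall
  obtain ⟨w, hw, e⟩ := exists_eq_smul S (x := x) (c := σ d) (by simpa using hd0) fun i => by
    obtain ⟨α, hα, β, hβ, γ, hγ, e⟩ := B.coords S (col_rat i)
    rw [frob_frob hF, e, show α • c + (β • e0 + γ • f) =
      α • y + ((β - α) • e0 + (γ - α * μ) • f) by rw [hy]; module,
      h_add_left, h_add_left, h_smul_left, h_smul_left, h_smul_left, add_div, add_div, mul_div_assoc,
      mul_div_assoc, mul_div_assoc]
    exact F₀.add_mem (F₀.mul_mem hα hy') (F₀.add_mem (F₀.mul_mem (F₀.sub_mem hβ hα) he)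
      (F₀.mul_mem (F₀.sub_mem hγ (F₀.mul_mem hα B.mem)) hf'))
  exact hx _ w hw e

/-- A rational element of `K` carrying one isotropic rational vector to another. -/
theorem exists_swap {r : ℕ} (O : Over hF F₀ P θ r K) {a b : V} (ha : IsR F₀ P a) (haa : h a a = 0)
    (hb : IsR F₀ P b) (hbb : h b b = 0) (hba : h b a ≠ 0) :
    ∃ k ∈ K, ∃ l : F, l ≠ 0 ∧ (k : Mn) *ᵥ a = l • b := by
  have S := O.str
  set c := (h b a)⁻¹
  have hcm : c ∈ F₀ := F₀.inv_mem (h_rat S hb ha)
  have hb' : IsR F₀ P (c • b) := hb.smul hcm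
  have hbb' : h (c • b) (c • b) = 0 := by simp [h_smul_left, h_smul_right hF, hbb]
  have h1 : h (c • b) a = 1 := by rw [h_smul_left, inv_mul_cancel₀ hba]
  have h2 : h a (c • b) = 1 := by rw [← h_swap hF, h1, map_one]
  obtain ⟨y, hy, e⟩ := inT_kap O hb' hbb' F₀.one_mem (map_one _)
  obtain ⟨y', hy', e'⟩ := inT_kap O ha haa (a := -(κ * κ)⁻¹)
    (F₀.neg_mem (F₀.inv_mem (F₀.mul_mem (kap_mem S) (kap_mem S))))
    (by rw [map_neg, map_inv₀, SubfieldGU.kap_sq])
  refine ⟨y * y' * y, mul_mem (mul_mem hy hy') hy, κ * c, mul_ne_zero (kap_ne S) (inv_ne_zero hba), ?_⟩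
  rw [Units.val_mul, Units.val_mul, ← Matrix.mulVec_mulVec, ← Matrix.mulVec_mulVec, e a, h2,
    e', h_add_left, h_smul_left, haa, h1]
  rw [show a + (κ * 1 * 1) • (c • b) + (κ * -(κ * κ)⁻¹ * (0 + κ * 1 * 1 * 1)) • a = κ • (c • b) by
      rw [show κ * -(κ * κ)⁻¹ * (0 + κ * 1 * 1 * 1) = -1 by field_simp [kap_ne S]; ring]
      module,
    e, h_smul_left, hbb', smul_smul]
  simp [smul_smul]

include hF in
/-- Isotropic rational vectors with zero inner product are proportional. -/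
theorem exists_smul_of_perp {u e : V} (huu : h u u = 0) (hee : h e e = 0) (he0 : e ≠ 0)
    (hue : h u e = 0) : ∃ t : F, u = t • e := by
  obtain ⟨τ, hτ, hF'⟩ := CfsgLib.Aschbacher.exists_unitary_hermForm (n := 3) hF
  by_contra hn
  push Not at hn
  refine SLThree.not_li_iso hF' huu hee hue (LinearIndependent.pair_iff.2 fun s t est => ?_)
  by_cases hs : s = 0
  · rw [hs, zero_smul, zero_add, smul_eq_zero] at est
    exact ⟨hs, est.resolve_right he0⟩
  · refine absurd ?_ (hn (-(s⁻¹ * t)))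
    have := congrArg (fun z => s⁻¹ • z) est
    simp only [smul_add, smul_smul, inv_mul_cancel₀ hs, one_smul, smul_zero] at this
    rw [neg_smul]
    exact eq_neg_of_add_eq_zero_left this

/-- An element outside the subfield subgroup moves an isotropic rational line off the rational lines. -/
theorem exists_moved_pt (S : RU hF F₀ P θ) {g : GL (Fin 3) F} (hg : g ∈ G)
    (hgS : g ∉ subfieldSubgroup F₀ P) :
    ∃ u, IsR F₀ P u ∧ h u u = 0 ∧ ∀ (c : F) w, IsR F₀ P w → (g : Mn) *ᵥ u ≠ c • w := by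
  by_contra hcon
  push Not at hcon
  obtain ⟨e, he, hee, he0⟩ := exists_rat_iso S
  obtain ⟨f, c, μ, B⟩ := exists_fr S he hee he0
  obtain ⟨ce, re, hre, eqe⟩ := hcon e he hee
  obtain ⟨cf, rf, hrf, eqf⟩ := hcon f B.rf B.ff
  obtain ⟨cy, ry, hry, eqy⟩ := hcon _ B.y_rat B.y_iso
  have hprod : ∀ {u w ru rw' : V} {cu cw : F}, IsR F₀ P u → IsR F₀ P w → IsR F₀ P ru → IsR F₀ P rw' →
      (g : Mn) *ᵥ u = cu • ru → (g : Mn) *ᵥ w = cw • rw' → h u w ≠ 0 →
      cu * σ cw ∈ F₀ ∧ cu * σ cw ≠ 0 := by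
    intro u w ru rw' cu cw hu hw hru hrw eu ew huw
    have e : cu * σ cw * h ru rw' = h u w := by
      rw [← G_isometry hg u w, eu, ew, h_smul_left, h_smul_right hF]; ring
    have hne : cu * σ cw * h ru rw' ≠ 0 := e ▸ huw
    refine ⟨?_, left_ne_zero_of_mul hne⟩
    rw [eq_div_of_mul_eq (right_ne_zero_of_mul hne) e]
    exact F₀.div_mem (h_rat S hu hw) (h_rat S hru hrw)
  obtain ⟨h1, h1'⟩ := hprod he B.rf hre hrf eqe eqf (by rw [B.ef]; exact one_ne_zero)
  obtain ⟨h2, h2'⟩ := hprod he B.y_rat hre hry eqe eqy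
    (h_ne_zero_swap hF (by rw [B.y_e]; exact B.mu_ne))
  obtain ⟨h3, h3'⟩ := hprod B.rf B.y_rat hrf hry eqf eqy
    (h_ne_zero_swap hF (by rw [B.y_f]; exact one_ne_zero))
  obtain ⟨h4, h4'⟩ := hprod B.y_rat B.rf hry hrf eqy eqf (by rw [B.y_f]; exact one_ne_zero)
  have hce : ce ≠ 0 := left_ne_zero_of_mul h1'
  have hrat_f : cf / ce ∈ F₀ := by
    rw [← mul_div_mul_right cf ce (right_ne_zero_of_mul h2')]
    exact F₀.div_mem h3 h2
  have hrat_y : cy / ce ∈ F₀ := by
    rw [← mul_div_mul_right cy ce (right_ne_zero_of_mul h1')]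
    exact F₀.div_mem h4 h1
  refine hgS (mem_of_entries (P := P) hce
    (N := Matrix.of fun i j => (((P⁻¹ : GL (Fin 3) F) : Mn) *ᵥ (ce⁻¹ • ((g : Mn) *ᵥ SubfieldGU.col P j))) i)
    (fun i j => ?_) ?_)
  · obtain ⟨α, hα, β, hβ, γ, hγ, e1⟩ := B.coords S (col_rat (F₀ := F₀) (P := P) j)
    obtain ⟨z, hz, ez⟩ := (hry.smul (F₀.mul_mem hα hrat_y)).add ((hre.smul (F₀.sub_mem hβ hα)).add
      (hrf.smul (F₀.mul_mem (F₀.sub_mem hγ (F₀.mul_mem hα B.mem)) hrat_f)))
    have hh : ce⁻¹ • ((g : Mn) *ᵥ SubfieldGU.col P j) = (α * (cy / ce)) • ry +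
        ((β - α) • re + ((γ - α * μ) * (cf / ce)) • rf) := by
      rw [e1, show α • c + (β • e + γ • f) =
        α • (c + (e + μ • f)) + ((β - α) • e + (γ - α * μ) • f) by module, Matrix.mulVec_add,
        Matrix.mulVec_add, Matrix.mulVec_smul, Matrix.mulVec_smul, Matrix.mulVec_smul, eqy, eqe, eqf]
      match_scalars <;> field_simp
    rw [Matrix.of_apply, hh, ← ez, Matrix.mulVec_mulVec, Units.inv_mul, Matrix.one_mulVec]
    exact hz i
  · refine Matrix.ext fun i j => ?_
    rw [Matrix.smul_apply, Matrix.of_apply, Matrix.mulVec_smul, Pi.smul_apply, smul_eq_mul,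
      smul_eq_mul, mul_inv_cancel_left₀ hce]
    have e : ((P⁻¹ * g * P : GL (Fin 3) F) : Mn) *ᵥ Pi.single j 1 =
        ((P⁻¹ : GL (Fin 3) F) : Mn) *ᵥ ((g : Mn) *ᵥ SubfieldGU.col P j) := by
      rw [Units.val_mul, Units.val_mul, ← Matrix.mulVec_mulVec, ← Matrix.mulVec_mulVec]; rfl
    rw [← e, Matrix.mulVec_single_one, Matrix.col_apply]

/-- A full centre at a rational point gives the whole group. -/
theorem top_of_rat_ctr {r : ℕ} (O : Over hF F₀ P θ r K) (hq : 3 ≤ q) {e : V} (he : IsR F₀ P e)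
    (hee : h e e = 0) (he0 : e ≠ 0) (hC : Ctr hF K e) : G ≤ K := by
  obtain ⟨f, c, μ, B⟩ := exists_fr O.str he hee he0
  have step : ∀ {b : V}, IsR F₀ P b → h b b = 0 → h b e ≠ 0 → Ctr hF K b := by
    intro b hb hbb hbe
    obtain ⟨k, hk, l, hl, hkb⟩ := exists_swap O he hee hb hbb hbe
    have := hC.conj hk (O.le hk)
    rw [hkb] at this
    exact Ctr.of_smul hl this
  exact top_of_line (hF := hF) hq B.cc B.ee B.ff (by rw [B.ef]; exact one_ne_zero) B.ec B.fc hC
    (step B.rf B.ff (by rw [B.fe]; exact one_ne_zero)) B.y_iso (by rw [B.y_c]; exact B.cc)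
    (step B.y_rat B.y_iso (by rw [B.y_e]; exact B.mu_ne))

end CfsgLib.MaxSub.SU3Max.Sub
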