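/-
Two root elements of `SL_2` over a field of odd prime degree give a bigger root group.
-/
import Cfsg.Agent.Lib.MaxSub.SU3Max.Subfield.Basic
import Cfsg.Agent.Lib.PSU3Min.Line
import Cfsg.Agent.Lib.DicksonFull.Main

set_option autoImplicit false
set_option maxHeartbeats 800000
set_option linter.unusedSectionVars false

namespace CfsgLib.MaxSub.SU3Max.Sub

open Matrix CfsgLib.DicksonFull
open CfsgLib.PSL2 (mk mk_eq_mk)
open CfsgLib.Dickson (up lo)

variable {L : Type*} [Field L] [Fintype L]

local notation "SL" => Matrix.SpecialLinearGroup (Fin 2) L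
local notation "PSL" => Matrix.ProjectiveSpecialLinearGroup (Fin 2) L

theorem mk_pow_entry {g : SL} {n : ℕ} (hg : mk g ^ n = 1) : (g ^ n).1 0 1 = 0 := by
  rcases mk_eq_one (a := g ^ n) (by rw [map_pow, hg]) with e | e <;> rw [e] <;> simp

variable (p : ℕ) [Fact p.Prime] [CharP L p]

/-- Two root elements with an irrational parameter give a second upper parameter. -/
theorem exists_more (hp2 : p ≠ 2) {r : ℕ} (hr : Odd r) (hc : Fintype.card L = p ^ r) {S : Subfield L}
    (hS : Nat.card S = p) {D : Subgroup SL} {β : L} (hβ : β ∉ S) (hlo : lo 1 ∈ D) (hup : up β ∈ D) :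
    ∃ b, up b ∈ D ∧ ∀ s ∈ S, b ≠ s * β := by
  classical
  by_contra hn
  push Not at hn
  have hcS : Fintype.card L = Nat.card S ^ r := by rw [hS, hc]
  have hpr := (Fact.out : p.Prime)
  have hodd : Odd p := hpr.odd_of_ne_two hp2
  have hβ0 : β ≠ 0 := fun e => hβ (e ▸ S.zero_mem)
  have h2 : (2 : L) ≠ 0 := Ring.two_ne_zero (by rwa [ringChar.eq L p])
  set H : Subgroup PSL := D.map mk
  set u : PSL := mk (up β)
  set v : PSL := mk (lo 1)
  have huH : u ∈ H := Subgroup.mem_map_of_mem mk hup
  have hvH : v ∈ H := Subgroup.mem_map_of_mem mk hlo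
  have hu : orderOf u = p := order_p_mk_up p hβ0
  have hv : orderOf v = p := order_p_mk_lo p one_ne_zero
  have hvu : ¬ Commute v u := fun e => by
    have e' : mk (lo 1 * up β) = mk (up β * lo 1) := by rw [map_mul, map_mul]; exact e
    rcases mk_eq_mk.1 e' with e1 | e1
    · have := congrFun (congrFun e1 0) 0
      simp only [Dickson.mul_entry] at this
      simp [lo, up] at this
      exact hβ0 this
    · have := congrFun (congrFun e1 0) 1
      rw [Matrix.neg_apply] at this
      simp only [Dickson.mul_entry] at this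
      simp [lo, up] at this
      exact hβ0 ((mul_eq_zero.1 (show (2 : L) * β = 0 by linear_combination this)).resolve_left h2)
  -- the trace is not quadratic over the prime field
  set t : L := 2 + β
  have ht : ∀ {a b : L}, a ∈ S → b ∈ S → t * t - a * t + b = 0 → False := fun ha hb e => hβ (by
    have h1 := mem_of_quad S hr hcS ha hb e
    have h22 : (2 : L) ∈ S := by rw [← one_add_one_eq_two]; exact S.add_mem S.one_mem S.one_mem
    simpa [t] using S.sub_mem h1 h22)
  have ht0 : t ≠ 0 := fun e => ht S.zero_mem S.zero_mem (by rw [e]; ring)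
  set g : SL := lo 1 * up β with hg
  have hgH : mk g ∈ H := Subgroup.mem_map_of_mem mk (mul_mem hlo hup)
  have g00 : g.1 0 0 = 1 := by
    rw [hg, Dickson.mul_entry]; simp [lo, up]
  have g01 : g.1 0 1 = β := by
    rw [hg, Dickson.mul_entry]; simp [lo, up]
  have g10 : g.1 1 0 = 1 := by
    rw [hg, Dickson.mul_entry]; simp [lo, up]
  have g11 : g.1 1 1 = β + 1 := by
    rw [hg, Dickson.mul_entry]; simp [lo, up]
  have key : ∀ (n : ℕ), (n = 2 ∨ n = 3 ∨ n = 4 ∨ n = 5) → mk g ^ n = 1 → False := by
    intro n hn' e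
    have e1 := mk_pow_entry e
    rcases hn' with rfl | rfl | rfl | rfl
    · simp only [pow_succ, pow_zero, one_mul, Dickson.mul_entry, g00, g01, g10, g11] at e1
      exact ht0 ((mul_eq_zero.1 (show β * t = 0 by linear_combination e1)).resolve_left hβ0)
    · simp only [pow_succ, pow_zero, one_mul, Dickson.mul_entry, g00, g01, g10, g11] at e1
      exact ht S.zero_mem (S.neg_mem S.one_mem) (a := 0) (b := -1) ((mul_eq_zero.1
        (show β * (t * t - 0 * t + -1) = 0 by linear_combination e1)).resolve_left hβ0)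
    · simp only [pow_succ, pow_zero, one_mul, Dickson.mul_entry, g00, g01, g10, g11] at e1
      have h22 : (2 : L) ∈ S := by rw [← one_add_one_eq_two]; exact S.add_mem S.one_mem S.one_mem
      exact ht S.zero_mem (S.neg_mem h22) (a := 0) (b := -2) ((mul_eq_zero.1
        (show (β * t) * (t * t - 0 * t + -2) = 0 by linear_combination e1)).resolve_left
          (mul_ne_zero hβ0 ht0))
    · simp only [pow_succ, pow_zero, one_mul, Dickson.mul_entry, g00, g01, g10, g11] at e1
      rcases mul_eq_zero.1 ((mul_eq_zero.1 (show β * ((t * t - 1 * t + -1) * (t * t - -1 * t + -1)) = 0 by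
        linear_combination e1)).resolve_left hβ0) with e2 | e2
      · exact ht S.one_mem (S.neg_mem S.one_mem) e2
      · exact ht (S.neg_mem S.one_mem) (S.neg_mem S.one_mem) e2
  have hsmall : ∀ {X : Type} [Group X] (φ : H ≃* X), (∀ a : X, a ^ 2 = 1 ∨ a ^ 3 = 1 ∨ a ^ 4 = 1 ∨ a ^ 5 = 1) →
      False := by
    intro X _ φ hX
    have back : ∀ n : ℕ, φ ⟨_, hgH⟩ ^ n = 1 → mk g ^ n = 1 := fun n e => by
      rw [← map_pow, ← map_one φ] at e
      exact congrArg Subtype.val (φ.injective e)
    rcases hX (φ ⟨_, hgH⟩) with e | e | e | e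
    exacts [key 2 (by omega) (back _ e), key 3 (by omega) (back _ e), key 4 (by omega) (back _ e),
      key 5 (by omega) (back _ e)]
  rcases DicksonFull.kind (psl p) H with h | ⟨x, hx, hxH, h⟩ | ⟨x, hx, hxH, h⟩ | h | h | h |
    ⟨w, hwH, hw, h⟩ | ⟨w, w', hwH, hw, hw'H, hw', hww, Q, hQ, h3, hh, -, -⟩
  · rw [h, Subgroup.mem_bot] at huH
    rw [huH, orderOf_one] at hu
    exact hpr.one_lt.ne hu
  · exact hvu (tor_comm (A := psl p) hx (h hvH) (h huH))
  · obtain ⟨φ⟩ := h
    have hrot : ∀ (z : PSL) (hz : z ∈ H), orderOf z = p → ∃ i, φ ⟨z, hz⟩ = DihedralGroup.r i := by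
      intro z hz ho
      rcases hh : φ ⟨z, hz⟩ with i | i
      · exact ⟨i, rfl⟩
      · exfalso
        have h1 : orderOf (φ ⟨z, hz⟩) = p := by rw [MulEquiv.orderOf_eq, Subgroup.orderOf_mk, ho]
        rw [hh, DihedralGroup.orderOf_sr] at h1
        exact hp2 h1.symm
    obtain ⟨i, hi⟩ := hrot u huH hu
    obtain ⟨j, hj⟩ := hrot v hvH hv
    have : (⟨v, hvH⟩ : H) * ⟨u, huH⟩ = ⟨u, huH⟩ * ⟨v, hvH⟩ := φ.injective (by
      rw [map_mul, map_mul, hi, hj, DihedralGroup.r_mul_r, DihedralGroup.r_mul_r, add_comm])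
    exact hvu (congrArg Subtype.val this)
  · obtain ⟨φ⟩ := h
    exact hsmall φ fun a => by rcases a4_orders a with e | e <;> simp [e]
  · obtain ⟨φ⟩ := h
    exact hsmall φ fun a => by rcases s4_orders a with e | e <;> simp [e]
  · obtain ⟨φ⟩ := h
    exact hsmall φ fun a => by rcases a5_orders a with e | e | e <;> simp [e]
  · have hpow : ∀ {z : PSL}, orderOf z = p → z ^ p = 1 := fun hz => hz ▸ pow_orderOf_eq_one _
    have h1 : u ∈ cent w := mem_cent_of_mem_bor p hw (h huH) (hpow hu)
    have h2 : v ∈ cent w := mem_cent_of_mem_bor p hw (h hvH) (hpow hv)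
    exact hvu (mem_cent.1 ((cent_eq (psl p) hw hu (mem_cent.1 h1)).symm ▸ h2))
  · obtain ⟨S', hS', htr⟩ := field_trace p hwH hw hw'H hw' hww Q hQ hh
    -- the upper part is small
    have hQp : Q ≤ p := by
      obtain ⟨M, hM⟩ : ∃ k ∈ H, k * u * k⁻¹ ∈ cent w := by
        obtain ⟨k, hk⟩ : ∃ k : PSL, k ∈ H ∧ Commute (k * u * k⁻¹) w := by
          obtain ⟨S1, hS1⟩ := DicksonFull.exists_sylow (psl p) (H := H) hwH hw
          obtain ⟨S2, hS2⟩ := DicksonFull.exists_sylow (psl p) (H := H) huH hu
          obtain ⟨k, hk⟩ := MulAction.exists_smul_eq H S2 S1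
          refine ⟨k, k.2, ?_⟩
          have hmem : (⟨u, huH⟩ : H) ∈ (S2 : Subgroup H) := by
            rw [hS2]; exact Subgroup.mem_subgroupOf.2 ⟨huH, self_mem_cent u⟩
          have : k * (⟨u, huH⟩ : H) * k⁻¹ ∈ (S1 : Subgroup H) := by
            rw [← hk]
            exact ⟨_, hmem, rfl⟩
          rw [hS1, Subgroup.mem_subgroupOf] at this
          exact mem_cent.1 this.2
        exact ⟨k, hk.1, mem_cent.2 hk.2⟩
      obtain ⟨hMH, hMc⟩ := hM
      have hcc : ∀ y ∈ (H ⊓ cent w : Subgroup PSL), M⁻¹ * y * M ∈ (H ⊓ cent u : Subgroup PSL) := by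
        intro y hy
        refine ⟨H.mul_mem (H.mul_mem (H.inv_mem hMH) hy.1) hMH, mem_cent.2 ?_⟩
        have hord : orderOf (M * u * M⁻¹) = p := by
          rw [show M * u * M⁻¹ = MulAut.conj M u from rfl, MulEquiv.orderOf_eq, hu]
        have hy' : y ∈ cent (M * u * M⁻¹) := by
          rw [cent_eq (psl p) hw hord (mem_cent.1 hMc)]; exact hy.2
        have := (mem_cent.1 hy').map (MulAut.conj M⁻¹)
        simpa [mul_assoc] using this
      let f : L → (cent u : Subgroup PSL) := fun x => ⟨mk (up x), mem_cent.mpr (Commute.map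
        (show up x * up β = up β * up x by rw [Dickson.up_mul, Dickson.up_mul, add_comm]) mk)⟩
      have hf : Function.Injective f := by
        intro x y e
        rcases mk_eq_mk.mp (congrArg Subtype.val e) with e1 | e1
        · simpa using (congrFun (congrFun e1 0) 1).symm
        · exfalso
          have h0 := congrFun (congrFun e1 0) 0
          simp at h0
          exact h2 (by linear_combination h0)
      have hfs : Function.Surjective f := (hf.bijective_of_nat_card_le (by
        rw [DicksonFull.card_cent p hu, Nat.card_eq_fintype_card])).2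
      have hb : ∀ y : (H ⊓ cent w : Subgroup PSL), ∃ s : S, mk (up ((s : L) * β)) = M⁻¹ * y.1 * M := by
        intro y
        obtain ⟨hyH, hyc⟩ := hcc _ y.2
        obtain ⟨x, hx⟩ := hfs ⟨_, hyc⟩
        have hx' : mk (up x) = M⁻¹ * y.1 * M := congrArg Subtype.val hx
        obtain ⟨s, hs, hxs⟩ := hn x (PSU3Min.up_mem_of_mk p (hx' ▸ hyH))
        exact ⟨⟨s, hs⟩, by rw [← hxs]; exact hx'⟩
      choose σ' hσ' using hb
      rw [← hQ, ← hS]
      refine Nat.card_le_card_of_injective σ' fun a b e => Subtype.ext ?_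
      have := hσ' a
      rw [e, hσ' b] at this
      exact (mul_left_cancel (mul_right_cancel this)).symm
    haveI : Fintype S' := Fintype.ofFinite _
    haveI : CharP S' p := (RingHom.charP_iff _ S'.subtype.injective p).2 inferInstance
    obtain ⟨d, -, hd⟩ := FiniteField.card S' p
    have hQ1 : Q = p := by
      rw [← Nat.card_eq_fintype_card, hS'] at hd
      have hd1 : (d : ℕ) ≤ 1 := by
        by_contra hd2
        have h1 := Nat.pow_le_pow_right hpr.pos (show 2 ≤ (d : ℕ) by omega)
        have h4 : p < p ^ 2 := by nlinarith [hpr.two_le]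
        omega
      rw [hd, show (d : ℕ) = 1 by have := d.pos; omega, pow_one]
    have hsub : ∀ s ∈ S', s ∈ S := fun s hs => CfsgLib.Aschbacher.mem_of_pow_card_eq (by
      rw [hS]
      have := congrArg Subtype.val (FiniteField.pow_card (⟨s, hs⟩ : S'))
      rwa [← Nat.card_eq_fintype_card, hS', hQ1] at this)
    have htt := hsub _ (htr g hgH)
    rw [Matrix.trace_fin_two, g00, g11] at htt
    exact ht S.zero_mem (S.neg_mem htt) (by ring)

end CfsgLib.MaxSub.SU3Max.Sub
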