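/-
The subfield with four elements: an overgroup with single root involutions keeps the rational points.
-/
import Cfsg.Agent.Lib.MaxSub.SU3Max.Subfield.Basic
import Cfsg.Agent.Lib.ZStar.Main
import Cfsg.Agent.Lib.Basic
import Cfsg.Agent.Lib.Comp.PComp

set_option autoImplicit false
set_option maxHeartbeats 1000000
set_option linter.unusedSectionVars false

namespace CfsgLib.MaxSub.SU3Max.Sub

open Matrix Module Cfsg Cfsg.Geo CfsgLib.UnitaryTransvection CfsgLib.MaxSub.Rational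
open CfsgLib.MaxSub.PairSU (IsT InT gl_ext exists_T)
open CfsgLib.MaxSub.SubfieldGU (RU IsR h_rat kap_ne kap_mem kap_mul_skew isT_conj)

variable {F : Type*} [Field F] [Fintype F] {q : ℕ} {hF : Fintype.card F = q ^ 2} {F₀ : Subfield F}
  {P : GL (Fin 3) F} {θ : F} {K : Subgroup (GL (Fin 3) F)} {r : ℕ}

local notation "V" => Fin 3 → F
local notation "h" => Cfsg.hermForm 3 F q
local notation "σ" => frob hF
local notation "Mn" => Matrix (Fin 3) (Fin 3) F
local notation "GG" => GL (Fin 3) F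
local notation "G" => Cfsg.GU 3 F q ⊓ specialLinear (Fin 3) F

theorem Pres.mul {g g' : GG} (hg : Pres F₀ P g) (hg' : Pres F₀ P g') : Pres F₀ P (g * g') := fun v hv => by
  rw [Units.val_mul, ← Matrix.mulVec_mulVec]
  exact hg _ (hg' v hv)

theorem Pres.pow {g : GG} (hg : Pres F₀ P g) : ∀ m : ℕ, Pres F₀ P (g ^ m)
  | 0 => fun v hv => by rw [pow_zero, Units.val_one, Matrix.one_mulVec]; exact hv
  | m + 1 => by rw [pow_succ]; exact (Pres.pow hg m).mul hg

theorem Pres.inv {g : GG} (hg : Pres F₀ P g) : Pres F₀ P g⁻¹ := by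
  have e : g⁻¹ = g ^ (orderOf g - 1) := inv_eq_of_mul_eq_one_right (by
    rw [← pow_succ', Nat.sub_add_cancel (orderOf_pos g), pow_orderOf_eq_one])
  rw [e]; exact hg.pow _

theorem isT_sq (h2 : (2 : F) = 0) {u : V} {c : F} (huu : h u u = 0) {g : GG} (hg : IsT q u c g) :
    g * g = 1 := gl_ext fun x => by
  rw [Units.val_mul, ← Matrix.mulVec_mulVec, hg x, hg, h_add_left, h_smul_left, huu, Units.val_one,
    Matrix.one_mulVec]
  match_scalars <;> first | linear_combination (c * h x u) * h2 | linear_combination -(c * h x u) * h2 | ring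

theorem mat_inj (g : GG) : Function.Injective fun v : V => (g : Mn) *ᵥ v :=
  Matrix.mulVec_injective_iff_isUnit.2 g.isUnit

section frame

variable {e f c : Fin 3 → F} {μ : F}

theorem ext_frame (B : Fr hF F₀ P e f c μ) {A A' : Mn} (he : A *ᵥ e = A' *ᵥ e) (hf : A *ᵥ f = A' *ᵥ f)
    (hc : A *ᵥ c = A' *ᵥ c) : A = A' := Matrix.ext_of_mulVec_single fun i => by
  rw [expand (hF := hF) B.cc B.ee B.ff B.ef B.ec B.fc (Pi.single i 1)]
  simp only [Matrix.mulVec_add, Matrix.mulVec_smul, he, hf, hc]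

/-- An element of odd order of the normaliser of the point is scalar. -/
theorem scalar_of_fix (B : Fr hF F₀ P e f c μ) (h2 : (2 : F) = 0) {w : GG} (hwG : w ∈ G)
    (hw : ∀ v, (w : Mn) *ᵥ v = v + (h v e • c + (μ * h v e + h v c) • e)) {n : GG} (hn : n ∈ G) {l : F}
    (hne : (n : Mn) *ᵥ e = l • e) (hodd : Odd (orderOf n)) (hm : Odd (orderOf (n * w * n⁻¹ * w⁻¹))) :
    ∃ a : F, (n : Mn) = a • 1 := by
  haveI : CharP F 2 := CharTwo.of_one_ne_zero_of_two_eq_zero one_ne_zero h2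
  haveI : Fact (Nat.Prime 2) := ⟨Nat.prime_two⟩
  have hl : l ≠ 0 := fun e0 => B.e_ne (mat_inj n (by
    show (n : Mn) *ᵥ e = (n : Mn) *ᵥ 0
    rw [hne, e0, zero_smul, Matrix.mulVec_zero]))
  have we : (w : Mn) *ᵥ e = e := by rw [hw, B.ee, B.ec]; module
  have wc : (w : Mn) *ᵥ c = c + h c c • e := by rw [hw, B.ce]; module
  have wf : (w : Mn) *ᵥ f = f + (c + μ • e) := by rw [hw, B.fe, B.fc]; module
  have hcancel : ∀ (g : GG) (x : V), ((g⁻¹ : GG) : Mn) *ᵥ ((g : Mn) *ᵥ x) = x := fun g x => by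
    rw [Matrix.mulVec_mulVec, Units.inv_mul, Matrix.one_mulVec]
  -- the action of `n` on `c`
  have hnc0 : h ((n : Mn) *ᵥ c) e = 0 := by
    have e1 := G_isometry hn c e
    rw [hne, h_smul_right hF, B.ce, mul_eq_zero] at e1
    exact e1.resolve_left ((map_ne_zero _).2 hl)
  set μn := h ((n : Mn) *ᵥ c) c / h c c
  set νn := h ((n : Mn) *ᵥ c) f
  have hnc : (n : Mn) *ᵥ c = μn • c + νn • e := by
    have e1 := expand (hF := hF) B.cc B.ee B.ff B.ef B.ec B.fc ((n : Mn) *ᵥ c)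
    rw [hnc0, zero_smul, add_zero] at e1
    exact e1
  have hμn : μn ≠ 0 := fun e0 => by
    have hc0 : c ≠ 0 := ne_zero_of_h_ne hF B.cc
    have e1 : c = (νn / l) • e := mat_inj n (by
      show (n : Mn) *ᵥ c = (n : Mn) *ᵥ _
      rw [Matrix.mulVec_smul, hnc, hne, e0, smul_smul, div_mul_cancel₀ _ hl]; module)
    have := congrArg (fun z => h c z) e1
    simp only [h_smul_right hF, B.ce, mul_zero] at this
    exact B.cc this
  have hnie : ((n⁻¹ : GG) : Mn) *ᵥ e = l⁻¹ • e := by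
    conv_lhs => rw [show e = l⁻¹ • ((n : Mn) *ᵥ e) by rw [hne, smul_smul, inv_mul_cancel₀ hl, one_smul]]
    rw [Matrix.mulVec_smul, hcancel]
  have hnic : ((n⁻¹ : GG) : Mn) *ᵥ c = μn⁻¹ • c - (μn⁻¹ * νn * l⁻¹) • e := by
    refine mat_inj n ?_
    show (n : Mn) *ᵥ _ = (n : Mn) *ᵥ _
    rw [Matrix.mulVec_mulVec, Units.mul_inv, Matrix.one_mulVec, Matrix.mulVec_sub, Matrix.mulVec_smul,
      Matrix.mulVec_smul, hnc, hne]
    match_scalars <;> field_simp <;> ring
  have hwie : ((w⁻¹ : GG) : Mn) *ᵥ e = e := by conv_lhs => rw [← we, hcancel]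
  have hwic : ((w⁻¹ : GG) : Mn) *ᵥ c = c - h c c • e := by
    refine mat_inj w ?_
    show (w : Mn) *ᵥ _ = (w : Mn) *ᵥ _
    rw [Matrix.mulVec_mulVec, Units.mul_inv, Matrix.one_mulVec, Matrix.mulVec_sub, Matrix.mulVec_smul,
      wc, we]
    module
  set m := n * w * n⁻¹ * w⁻¹ with hmdef
  have hmG : m ∈ G := mul_mem (mul_mem (mul_mem hn hwG) (inv_mem hn)) (inv_mem hwG)
  have hme : (m : Mn) *ᵥ e = e := by
    rw [hmdef, Units.val_mul, Units.val_mul, Units.val_mul, ← Matrix.mulVec_mulVec, hwie,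
      ← Matrix.mulVec_mulVec, hnie, ← Matrix.mulVec_mulVec, Matrix.mulVec_smul, we, Matrix.mulVec_smul,
      hne, smul_smul, inv_mul_cancel₀ hl, one_smul]
  obtain ⟨s, hmc⟩ : ∃ s : F, (m : Mn) *ᵥ c = c + s • e := by
    refine ⟨μn⁻¹ * νn + l * (μn⁻¹ * h c c - (μn⁻¹ * νn * l⁻¹) - h c c * l⁻¹), ?_⟩
    rw [hmdef, Units.val_mul, Units.val_mul, Units.val_mul, ← Matrix.mulVec_mulVec, hwic,
      ← Matrix.mulVec_mulVec, Matrix.mulVec_sub, Matrix.mulVec_smul, hnic, hnie,
      ← Matrix.mulVec_mulVec]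
    simp only [Matrix.mulVec_sub, Matrix.mulVec_add, Matrix.mulVec_smul, we, wc, hne, hnc]
    match_scalars <;> field_simp <;> ring
  set a' := h ((m : Mn) *ᵥ f) c / h c c
  set b' := h ((m : Mn) *ᵥ f) f
  have hmf : (m : Mn) *ᵥ f = a' • c + (b' • e + f) := by
    have e1 := expand (hF := hF) B.cc B.ee B.ff B.ef B.ec B.fc ((m : Mn) *ᵥ f)
    have e2 : h ((m : Mn) *ᵥ f) e = 1 := by
      rw [show h ((m : Mn) *ᵥ f) e = h ((m : Mn) *ᵥ f) ((m : Mn) *ᵥ e) by rw [hme], G_isometry hmG, B.fe]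
    rw [e2, one_smul] at e1
    exact e1
  have hcube : ((m : Mn) - 1) ^ 3 = 0 := by
    refine ext_frame B ?_ ?_ ?_ <;>
      simp only [pow_succ, pow_zero, Matrix.one_mul, ← Matrix.mulVec_mulVec, Matrix.sub_mulVec,
        Matrix.one_mulVec, Matrix.zero_mulVec, Matrix.mulVec_sub, Matrix.mulVec_add, Matrix.mulVec_smul,
        hme, hmc, hmf] <;> module
  have hm4 : m ^ 4 = 1 := Units.ext (by
    have e1 : ((m : Mn) - 1) ^ (2 ^ 2) = (m : Mn) ^ (2 ^ 2) - 1 ^ (2 ^ 2) :=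
      sub_pow_char_pow_of_commute _ _ (Commute.one_right _)
    rw [show (2 : ℕ) ^ 2 = 4 by norm_num, show (4 : ℕ) = 3 + 1 by norm_num, pow_succ, hcube, Matrix.zero_mul,
      one_pow, eq_comm, sub_eq_zero] at e1
    rw [Units.val_pow_eq_pow_val, Units.val_one]
    exact e1)
  have hm1 : m = 1 := by
    refine orderOf_eq_one_iff.1 ?_
    have h1 : orderOf m ∣ 2 ^ 2 := orderOf_dvd_of_pow_eq_one hm4
    obtain ⟨j, hj, hjm⟩ := (Nat.dvd_prime_pow Nat.prime_two).1 h1
    rcases j with - | j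
    · simpa using hjm
    · exfalso
      rw [hjm, Nat.odd_iff] at hm
      omega
  have hcomm : n * w = w * n := mul_inv_eq_iff_eq_mul.1 (mul_inv_eq_one.1 (hmdef ▸ hm1))
  have hcm : ∀ x, (n : Mn) *ᵥ ((w : Mn) *ᵥ x) = (w : Mn) *ᵥ ((n : Mn) *ᵥ x) := fun x => by
    rw [Matrix.mulVec_mulVec, Matrix.mulVec_mulVec, ← Units.val_mul, ← Units.val_mul, hcomm]
  -- the centraliser of `w`
  set a := h ((n : Mn) *ᵥ f) e
  set b := h ((n : Mn) *ᵥ f) c / h c c
  set g := h ((n : Mn) *ᵥ f) f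
  have hnf : (n : Mn) *ᵥ f = b • c + (g • e + a • f) :=
    expand (hF := hF) B.cc B.ee B.ff B.ef B.ec B.fc ((n : Mn) *ᵥ f)
  have e1 := hcm f
  rw [wf, hnf, Matrix.mulVec_add, Matrix.mulVec_add, Matrix.mulVec_smul, hnc, hne, hnf] at e1
  simp only [Matrix.mulVec_add, Matrix.mulVec_smul, we, wc, wf] at e1
  have ec := congrArg (fun z => h z c) e1
  have ef := congrArg (fun z => h z f) e1
  simp only [h_add_left, h_smul_left, B.ec, B.fc, B.cf, B.ef, B.ff] at ec ef
  have hμa : μn = a := mul_right_cancel₀ B.cc (by linear_combination ec)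
  have e3 := hcm c
  rw [wc, Matrix.mulVec_add, Matrix.mulVec_smul, hnc, hne] at e3
  simp only [Matrix.mulVec_add, Matrix.mulVec_smul, we, wc] at e3
  have e4 := congrArg (fun z => h z f) e3
  simp only [h_add_left, h_smul_left, B.cf, B.ef] at e4
  have hla : l = a := by
    rw [← hμa]
    exact mul_left_cancel₀ B.cc (by linear_combination e4)
  have hν : νn = b * h c c := by
    linear_combination ef - μ * hla
  have h4 : (n : Mn) ^ 4 = a ^ 4 • (1 : Mn) := by
    refine ext_frame B ?_ ?_ ?_ <;>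
      simp only [pow_succ, pow_zero, Matrix.one_mul, ← Matrix.mulVec_mulVec, Matrix.smul_mulVec,
        Matrix.one_mulVec, Matrix.mulVec_add, Matrix.mulVec_smul, hne, hnf, hnc, hla, hμa, hν, one_mul] <;>
      match_scalars <;> first
        | ring1
        | (ring_nf; rw [show (4 : F) = 0 by linear_combination 2 * h2]; ring1)
        | (ring_nf; rw [show (6 : F) = 0 by linear_combination 3 * h2]; ring1)
        | (ring_nf; simp [h2, show (4 : F) = 0 by linear_combination 2 * h2, show (6 : F) = 0 by linear_combination 3 * h2])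
  obtain ⟨j, hj⟩ : ∃ j : ℕ, n = (n ^ 4) ^ j := by
    obtain ⟨j, hj⟩ := exists_pow_eq_self_of_coprime (x := n) (n := 4) (by
      rw [show (4 : ℕ) = 2 ^ 2 by norm_num]
      exact (Nat.coprime_two_left.2 hodd).pow_left 2)
    exact ⟨j, hj.symm⟩
  refine ⟨(a ^ 4) ^ j, ?_⟩
  conv_lhs => rw [hj, Units.val_pow_eq_pow_val, Units.val_pow_eq_pow_val, h4, _root_.smul_pow, one_pow]

/-- The elation of order four. -/
theorem exists_elation (B : Fr hF F₀ P e f c μ) (S : RU hF F₀ P θ) (h2 : (2 : F) = 0) :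
    ∃ w : GG, w ∈ G ∧ Pres F₀ P w ∧
      ∀ v, (w : Mn) *ᵥ v = v + (h v e • c + (μ * h v e + h v c) • e) := by
  haveI : CharP F 2 := CharTwo.of_one_ne_zero_of_two_eq_zero one_ne_zero h2
  haveI : Fact (Nat.Prime 2) := ⟨Nat.prime_two⟩
  let L : V →ₗ[F] V :=
    { toFun := fun v => h v e • c + (μ * h v e + h v c) • e
      map_add' := fun u v => by simp only [h_add_left]; module
      map_smul' := fun a v => by simp only [h_smul_left, RingHom.id_apply]; module }
  set M : Mn := LinearMap.toMatrix' L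
  have hM : ∀ v, M *ᵥ v = h v e • c + (μ * h v e + h v c) • e := fun v => by
    rw [← Matrix.toLin'_apply, Matrix.toLin'_toMatrix']; rfl
  have hM3 : M ^ 3 = 0 := Matrix.ext_of_mulVec_single fun i => by
    simp only [pow_succ, pow_zero, Matrix.one_mul, ← Matrix.mulVec_mulVec, hM, Matrix.zero_mulVec,
      h_add_left, h_smul_left, B.ee, B.ec, B.ce, mul_zero, add_zero, zero_smul, smul_zero, zero_add]
  have h4 : (1 + M) ^ 4 = 1 := by
    have e1 : (1 + M) ^ (2 ^ 2) = 1 ^ (2 ^ 2) + M ^ (2 ^ 2) :=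
      add_pow_char_pow_of_commute _ _ (Commute.one_left _)
    rw [show (2 : ℕ) ^ 2 = 4 by norm_num, one_pow, show M ^ 4 = M ^ 3 * M from pow_succ M 3, hM3,
      Matrix.zero_mul, add_zero] at e1
    exact e1
  let w : GG := ⟨1 + M, (1 + M) ^ 3, by rw [← pow_succ']; exact h4, by rw [← pow_succ]; exact h4⟩
  have hw : ∀ v, (w : Mn) *ᵥ v = v + (h v e • c + (μ * h v e + h v c) • e) := fun v => by
    show (1 + M) *ᵥ v = _
    rw [Matrix.add_mulVec, Matrix.one_mulVec, hM]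
  refine ⟨w, ⟨?_, ?_⟩, fun v hv => ?_, hw⟩
  · intro u v
    show h ((w : Mn) *ᵥ u) ((w : Mn) *ᵥ v) = h u v
    have hev : h e v = σ (h v e) := (h_swap hF _ _).symm
    have hcv : h c v = σ (h v c) := (h_swap hF _ _).symm
    rw [hw, hw]
    simp only [h_add_left, h_add_right hF, h_smul_left, h_smul_right hF, map_add, map_mul, B.ee, B.ec,
      B.ce, hev, hcv]
    linear_combination (h u e * σ (h v e)) * B.tr +
      (σ (h v e) * h u c + h u e * σ (h v c)) * h2
  · refine Units.ext ?_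
    show (1 + M).det = 1
    have e1 : ((1 + M).det - 1) ^ (2 ^ 2) = 0 := by
      rw [sub_pow_char_pow, show (2 : ℕ) ^ 2 = 4 by norm_num, ← Matrix.det_pow, h4, Matrix.det_one,
        one_pow, sub_self]
    exact sub_eq_zero.1 (eq_zero_of_pow_eq_zero e1)
  · rw [hw]
    exact hv.add ((B.rc.smul (h_rat S hv B.re)).add
      (B.re.smul (F₀.add_mem (F₀.mul_mem B.mem (h_rat S hv B.re)) (h_rat S hv B.rc))))

end frame

include hF in
theorem line_of_isT_eq {u v : V} {g : GG} (hu : IsT q u 1 g) (hv : IsT q v 1 g) (hu0 : u ≠ 0) :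
    ∃ l : F, v = l • u := by
  obtain ⟨x, hx⟩ : ∃ x, h x u ≠ 0 := by
    by_contra hn
    push Not at hn
    exact hu0 (h_nondeg hF fun x => by rw [← h_swap hF, hn x, map_zero])
  have e := (hu x).symm.trans (hv x)
  rw [add_left_cancel_iff, one_mul, one_mul] at e
  have hxv : h x v ≠ 0 := fun e0 => by
    rw [e0, zero_smul, smul_eq_zero] at e
    exact e.elim hx hu0
  exact ⟨h x u / h x v, by rw [div_eq_inv_mul, ← smul_smul, e, smul_smul, inv_mul_cancel₀ hxv, one_smul]⟩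

/-- A fixed-point-free involution makes the commutators scalar. -/
theorem comm_scalar (h2 : (2 : F) = 0) (N : Subgroup K) [N.Normal] {t : GG} (htK : t ∈ K) (htt : t * t = 1)
    (hfix : ∀ n : K, n ∈ N → (n : GG) * t = t * (n : GG) → ∃ a : F, ((n : GG) : Mn) = a • 1) {x z : K}
    (hx : x ∈ N) (hz : z ∈ N) :
    ∃ ζ : F, ((x : GG) : Mn) * ((z : GG) : Mn) = ζ • (((z : GG) : Mn) * ((x : GG) : Mn)) := by
  let Z : Subgroup N :=
    { carrier := {n | ∃ a : F, (((n : K) : GG) : Mn) = a • 1}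
      one_mem' := ⟨1, by simp⟩
      mul_mem' := by
        rintro x y ⟨a, ha⟩ ⟨b, hb⟩
        refine ⟨a * b, ?_⟩
        show ((x : K) : GG).1 * ((y : K) : GG).1 = _
        rw [ha, hb, Matrix.smul_mul, Matrix.one_mul, smul_smul]
      inv_mem' := by
        rintro x ⟨a, ha⟩
        refine ⟨a⁻¹, ?_⟩
        have h1 : (((x : K) : GG) : Mn) * ((((x : K) : GG)⁻¹ : GG) : Mn) = 1 := Units.mul_inv _
        rw [ha, Matrix.smul_mul, Matrix.one_mul] at h1
        have ha0 : a ≠ 0 := fun e0 => by rw [e0, zero_smul] at h1; exact zero_ne_one h1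
        show ((((x : K) : GG)⁻¹ : GG) : Mn) = _
        rw [← h1, smul_smul, inv_mul_cancel₀ ha0, one_smul] }
  haveI : Z.Normal := ⟨fun x ⟨a, ha⟩ g => ⟨a, by
    show ((g : K) : GG).1 * ((x : K) : GG).1 * ((((g : K) : GG)⁻¹ : GG) : Mn) = _
    rw [ha, Matrix.mul_smul, Matrix.mul_one, Matrix.smul_mul, Units.mul_inv]⟩⟩
  have hti : (⟨t, htK⟩ : K)⁻¹ = ⟨t, htK⟩ := Subtype.ext (inv_eq_of_mul_eq_one_left htt)
  let φ : N →* N := (MulAut.conjNormal (⟨t, htK⟩ : K)).toMonoidHom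
  have hφv : ∀ n : N, (((φ n : N) : K) : GG) = t * ((n : K) : GG) * t := fun n => by
    show (((⟨t, htK⟩ : K) * (n : K) * (⟨t, htK⟩ : K)⁻¹ : K) : GG) = _
    rw [hti]; rfl
  let ψ : N ⧸ Z →* N ⧸ Z := QuotientGroup.map Z Z φ (fun n ⟨a, ha⟩ => ⟨a, by
    rw [hφv, Units.val_mul, Units.val_mul, ha, Matrix.mul_smul, Matrix.mul_one, Matrix.smul_mul,
      ← Units.val_mul, htt, Units.val_one]⟩)
  have hinv : Function.Involutive ψ := fun X => by
    obtain ⟨n, rfl⟩ := QuotientGroup.mk_surjective X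
    show ((φ (φ n) : N) : N ⧸ Z) = n
    congr 1
    refine Subtype.ext (Subtype.ext ?_)
    rw [hφv, hφv, show t * (t * ((n : K) : GG) * t) * t = (t * t) * ((n : K) : GG) * (t * t) by
      simp only [mul_assoc], htt, one_mul, mul_one]
  have hfpf : MonoidHom.FixedPointFree ψ := fun X hX => by
    obtain ⟨n, rfl⟩ := QuotientGroup.mk_surjective X
    obtain ⟨a, ha⟩ := QuotientGroup.eq.1 (show ((φ n : N) : N ⧸ Z) = (n : N ⧸ Z) from hX)
    rw [QuotientGroup.eq_one_iff]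
    set g := ((n : K) : GG)
    change (((((φ n : N) : K) : GG)⁻¹ * g : GG) : Mn) = a • 1 at ha
    rw [hφv] at ha
    have e1 : (g : Mn) = a • ((t : Mn) * (g : Mn) * (t : Mn)) := by
      have := congrArg (fun A => ((t * g * t : GG) : Mn) * A) ha
      rw [← Units.val_mul, mul_inv_cancel_left, Matrix.mul_smul, Matrix.mul_one] at this
      exact this
    have e2 : (g : Mn) = a • (a • (g : Mn)) := by
      conv_lhs => rw [e1, e1, Matrix.mul_smul, Matrix.smul_mul,
        show (t : Mn) * ((t : Mn) * (g : Mn) * (t : Mn)) * (t : Mn) =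
          ((t * t : GG) : Mn) * (g : Mn) * ((t * t : GG) : Mn) by
          simp only [Units.val_mul, mul_assoc], htt, Units.val_one, Matrix.one_mul, Matrix.mul_one]
    have ha1 : a = 1 := by
      have hg0 : (g : Mn) ≠ 0 := Units.ne_zero g
      have h1 : a * a = 1 := by
        refine (smul_left_injective F hg0 ?_).symm
        show (1 : F) • (g : Mn) = (a * a) • (g : Mn)
        rw [one_smul, ← smul_smul, ← e2]
      exact sub_eq_zero.1 (pow_eq_zero_iff (two_ne_zero : (2 : ℕ) ≠ 0) |>.1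
        (show (a - 1) ^ 2 = 0 by linear_combination h1 - (a - 1) * h2))
    rw [ha1, one_smul] at e1
    have e3 : g * t = t * g := Units.ext (by
      rw [Units.val_mul, Units.val_mul]
      conv_lhs => rw [e1]
      rw [Matrix.mul_assoc _ (t : Mn) (t : Mn), ← Units.val_mul t t, htt, Units.val_one, Matrix.mul_one])
    exact hfix (n : K) n.2 e3
  obtain ⟨a, ha⟩ := QuotientGroup.eq.1 (show (((⟨z, hz⟩ * ⟨x, hx⟩ : N)) : N ⧸ Z) =
    ((⟨x, hx⟩ * ⟨z, hz⟩ : N) : N ⧸ Z) from (hfpf.commute_all_of_involutive hinv ((⟨z, hz⟩ : N) : N ⧸ Z) ((⟨x, hx⟩ : N) : N ⧸ Z)).eq)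
  refine ⟨a, ?_⟩
  change (((((z : GG) * x)⁻¹ * (x * z)) : GG) : Mn) = a • 1 at ha
  have := congrArg (fun A => (((z : GG) * x : GG) : Mn) * A) ha
  rw [← Units.val_mul, mul_inv_cancel_left, Matrix.mul_smul, Matrix.mul_one, Units.val_mul,
    Units.val_mul] at this
  exact this

/-- A matrix commuting with two elements twisted by a cube root of unity. -/
theorem eq_smul_one {A B' M : Mn} {c : V} {ζ ν : F} (hζ : A * B' = ζ • (B' * A)) (hζ3 : ζ ^ 3 = 1)
    (hζ1 : ζ ≠ 1) (hAu : Function.Injective (A *ᵥ ·)) (hBu : Function.Injective (B' *ᵥ ·)) (hc0 : c ≠ 0)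
    (hAc : A *ᵥ c = c) (hν : M *ᵥ c = ν • c) (hMB : M * B' = B' * M) : M = ν • 1 := by
  set v1 := B' *ᵥ c
  set v2 := B' *ᵥ v1
  have a1 : A *ᵥ v1 = ζ • v1 := by
    rw [Matrix.mulVec_mulVec, hζ, Matrix.smul_mulVec, ← Matrix.mulVec_mulVec, hAc]
  have a2 : A *ᵥ v2 = (ζ * ζ) • v2 := by
    rw [Matrix.mulVec_mulVec, hζ, Matrix.smul_mulVec, ← Matrix.mulVec_mulVec, a1, Matrix.mulVec_smul,
      smul_smul]
  have hv1 : v1 ≠ 0 := fun e1 => hc0 (hBu (show B' *ᵥ c = B' *ᵥ 0 by rw [Matrix.mulVec_zero]; exact e1))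
  have hv2 : v2 ≠ 0 := fun e1 => hv1 (hBu (show B' *ᵥ v1 = B' *ᵥ 0 by rw [Matrix.mulVec_zero]; exact e1))
  have hli : LinearIndependent F ![c, v1, v2] := by
    rw [Fintype.linearIndependent_iff]
    intro s hs
    simp only [Fin.sum_univ_three, Matrix.cons_val_zero, Matrix.cons_val_one, Matrix.cons_val_two,
      Matrix.head_cons, Matrix.tail_cons] at hs
    have e1 := congrArg (A *ᵥ ·) hs
    simp only [Matrix.mulVec_add, Matrix.mulVec_smul, Matrix.mulVec_zero, hAc, a1, a2, smul_smul] at e1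
    have e2 := congrArg (A *ᵥ ·) e1
    simp only [Matrix.mulVec_add, Matrix.mulVec_smul, Matrix.mulVec_zero, hAc, a1, a2, smul_smul] at e2
    have e3 : ((ζ - 1) * (ζ * ζ - 1) * ζ * s 2) • v2 = 0 := by
      linear_combination (norm := module) e2 - (ζ + 1) • e1 + ζ • hs
    have hz0 : (ζ - 1) * (ζ * ζ - 1) * ζ ≠ 0 := by
      refine mul_ne_zero (mul_ne_zero (sub_ne_zero.2 hζ1) fun e4 => hζ1 ?_) fun e4 => ?_
      · linear_combination hζ3 - ζ * e4
      · rw [e4] at hζ3; simp at hζ3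
    have s2 : s 2 = 0 :=
      (mul_eq_zero.1 ((smul_eq_zero.1 e3).resolve_right hv2)).resolve_left hz0
    rw [s2, zero_smul, add_zero] at hs
    rw [s2, zero_mul, zero_smul, add_zero] at e1
    have e5 : ((ζ - 1) * s 1) • v1 = 0 := by linear_combination (norm := module) e1 - hs
    have s1 : s 1 = 0 :=
      (mul_eq_zero.1 ((smul_eq_zero.1 e5).resolve_right hv1)).resolve_left (sub_ne_zero.2 hζ1)
    rw [s1, zero_smul, add_zero, smul_eq_zero] at hs
    intro i; fin_cases i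
    · exact hs.resolve_right hc0
    · exact s1
    · exact s2
  have m1 : M *ᵥ v1 = ν • v1 := by
    rw [Matrix.mulVec_mulVec, hMB, ← Matrix.mulVec_mulVec, hν, Matrix.mulVec_smul]
  have m2 : M *ᵥ v2 = ν • v2 := by
    rw [Matrix.mulVec_mulVec, hMB, ← Matrix.mulVec_mulVec, m1, Matrix.mulVec_smul]
  refine Matrix.ext_of_mulVec_single fun i => ?_
  have hv : (Pi.single i 1 : V) ∈ Submodule.span F (Set.range ![c, v1, v2]) := by
    rw [hli.span_eq_top_of_card_eq_finrank (by simp)]; exact Submodule.mem_top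
  obtain ⟨s, hs⟩ := Submodule.mem_span_range_iff_exists_fun F |>.1 hv
  simp only [Fin.sum_univ_three, Matrix.cons_val_zero, Matrix.cons_val_one, Matrix.cons_val_two,
    Matrix.head_cons, Matrix.tail_cons] at hs
  rw [← hs, Matrix.smul_mulVec, Matrix.one_mulVec]
  simp only [Matrix.mulVec_add, Matrix.mulVec_smul, hν, m1, m2]
  module

/-- With one root involution at a rational point, `K` keeps that point rational. -/
theorem rat_of_uniq (O : Over hF F₀ P θ r K) (h2 : (2 : F) = 0)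
    (hq0 : ∀ x ∈ F₀, σ x = x → x = 0 ∨ x = 1) {e : V} (he : IsR F₀ P e) (hee : h e e = 0) (he0 : e ≠ 0)
    (huniq : ∀ x : F, InT q K e x → x + σ x = 0 → x ∈ F₀) {k : GG} (hk : k ∈ K) :
    ∃ (l : F) (v : V), IsR F₀ P v ∧ (k : Mn) *ᵥ e = l • v := by
  classical
  haveI : CharP F 2 := CharTwo.of_one_ne_zero_of_two_eq_zero one_ne_zero h2
  haveI : Fact (Nat.Prime 2) := ⟨Nat.prime_two⟩
  have S := O.str
  obtain ⟨f, c, μ, B⟩ := exists_fr S he hee he0
  set y := c + (e + μ • f) with hy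
  have hskew : ∀ x : F, x + σ x = 0 ↔ σ x = x := fun x => by
    constructor
    · intro e1; linear_combination e1 - x * h2
    · intro e1; linear_combination e1 + x * h2
  have h1s : (1 : F) + σ 1 = 0 := (hskew 1).2 (map_one _)
  have huniq' : ∀ x : F, InT q K e x → σ x = x → x ≠ 0 → x = 1 := fun x hx hs hx0 =>
    (hq0 x (huniq x hx ((hskew x).2 hs)) hs).resolve_left hx0
  obtain ⟨t, htK, ht⟩ := inT_rat O he hee F₀.one_mem h1s
  obtain ⟨t', ht'K, ht'⟩ := inT_rat O B.rf B.ff F₀.one_mem h1s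
  obtain ⟨t'', ht''K, ht''⟩ := inT_rat O B.y_rat B.y_iso F₀.one_mem h1s
  have htt := isT_sq h2 hee ht
  have hcancel : ∀ (g : GG) (x : V), ((g⁻¹ : GG) : Mn) *ᵥ ((g : Mn) *ᵥ x) = x := fun g x => by
    rw [Matrix.mulVec_mulVec, Units.inv_mul, Matrix.one_mulVec]
  -- isolation
  have hiso : IsIsolated (⟨t, htK⟩ : K) := by
    rintro ⟨g, hg⟩ hc
    have hcg : t * (g * t * g⁻¹) = g * t * g⁻¹ * t := congrArg Subtype.val hc
    refine Subtype.ext ?_
    show g * t * g⁻¹ = t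
    have hgG := O.le hg
    have hX := isT_conj hgG ht
    set u := (g : Mn) *ᵥ e
    have huu : h u u = 0 := by rw [G_isometry hgG, hee]
    have hue : h u e = 0 := by
      by_contra hue
      have e1 : ((t * (g * t * g⁻¹) : GG) : Mn) *ᵥ e = ((g * t * g⁻¹ * t : GG) : Mn) *ᵥ e := by rw [hcg]
      rw [Units.val_mul t, Units.val_mul (g * t * g⁻¹) t, ← Matrix.mulVec_mulVec, ← Matrix.mulVec_mulVec,
        ht e, hee] at e1
      simp only [one_mul, mul_zero, zero_smul, add_zero] at e1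
      rw [hX e, ht, h_add_left, h_smul_left, hee] at e1
      simp only [one_mul, zero_add] at e1
      rw [add_eq_left] at e1
      exact (smul_eq_zero.1 e1).elim (mul_ne_zero (h_ne_zero_swap hF hue) hue) he0
    obtain ⟨l, hl⟩ := exists_smul_of_perp (hF := hF) huu hee he0 hue
    have hX' : IsT q e (l * σ l) (g * t * g⁻¹) := fun x => by
      rw [hX x, hl, h_smul_right hF, smul_smul]; ring_nf
    have hl0 : l ≠ 0 := fun e0 => he0 (mat_inj g (by
      show u = (g : Mn) *ᵥ 0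
      rw [hl, e0, zero_smul, Matrix.mulVec_zero]))
    have := huniq' _ ⟨_, mul_mem (mul_mem hg htK) (inv_mem hg), hX'⟩
      (by rw [map_mul, frob_frob hF, mul_comm]) (mul_ne_zero hl0 ((map_ne_zero _).2 hl0))
    rw [this] at hX'
    exact gl_ext fun x => by rw [hX', ht]
  have hord : orderOf (⟨t, htK⟩ : K) = 2 := by
    rw [Subgroup.orderOf_mk]
    refine orderOf_eq_prime (by rw [sq, htt]) fun e1 => he0 ?_
    have := ht f
    rw [e1, Units.val_one, Matrix.one_mulVec, B.fe, one_mul, one_smul, left_eq_add] at this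
    exact this
  set N : Subgroup K := pPrimeCore 2 K
  haveI : N.Normal := inferInstance
  have hodd : ∀ {x : K}, x ∈ N → Odd (orderOf (x : GG)) := fun {x} hx => by
    rw [Subgroup.orderOf_coe, ← Nat.coprime_two_left]
    exact (Nat.Coprime.coprime_dvd_left (Subgroup.orderOf_dvd_natCard _ hx)
      (card_pPrimeCore_coprime 2)).symm
  have hZ : ∀ g : K, g * ⟨t, htK⟩ * g⁻¹ * (⟨t, htK⟩ : K)⁻¹ ∈ N := CfsgLib.ZStar.inZStar hord hiso
  -- conjugate root involutions
  have hconj : ∀ {u : V}, IsR F₀ P u → h u u = 0 → h u e ≠ 0 → ∀ {s : GG}, IsT q u 1 s →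
      ∃ hm : t * s ∈ K, (⟨t * s, hm⟩ : K) ∈ N := by
    intro u hu huu hue s hs
    obtain ⟨g, hg, l, hl0, hgu⟩ := exists_swap O he hee hu huu hue
    have hsK : s ∈ K := mem_of_pres O (pres_isT S hu F₀.one_mem hs) (by
      obtain ⟨s', hs'G, hs'⟩ := exists_T (hF := hF) huu h1s
      rwa [show s = s' from gl_ext fun x => by rw [hs, hs']])
    have hX := isT_conj (O.le hg) ht
    rw [hgu] at hX
    have hgi : IsT q e (l * σ l)⁻¹ (g⁻¹ * s * g⁻¹⁻¹) := by
      have h1 := isT_conj (O.le (inv_mem hg)) hs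
      have e1 : ((g⁻¹ : GG) : Mn) *ᵥ u = l⁻¹ • e := by
        rw [show u = l⁻¹ • ((g : Mn) *ᵥ e) by rw [hgu, smul_smul, inv_mul_cancel₀ hl0, one_smul],
          Matrix.mulVec_smul, hcancel]
      intro x
      rw [h1 x, e1, h_smul_right hF, smul_smul, map_inv₀]
      congr 2
      rw [mul_inv]; ring
    have := huniq' _ ⟨_, mul_mem (mul_mem (inv_mem hg) hsK) (inv_mem (inv_mem hg)), hgi⟩
      (by rw [map_inv₀, map_mul, frob_frob hF, mul_comm])
      (inv_ne_zero (mul_ne_zero hl0 ((map_ne_zero _).2 hl0)))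
    rw [inv_eq_one] at this
    have es : g * t * g⁻¹ = s := gl_ext fun x => by
      rw [hX, hs, h_smul_right hF, smul_smul, one_mul, one_mul]
      congr 2
      linear_combination h x u * this
    refine ⟨mul_mem htK hsK, ?_⟩
    have h1 := N.inv_mem (hZ ⟨g, hg⟩)
    convert h1 using 1
    refine Subtype.ext ?_
    show t * s = (g * t * g⁻¹ * t⁻¹)⁻¹
    rw [es, _root_.mul_inv_rev, inv_inv, inv_eq_of_mul_eq_one_left (isT_sq h2 huu hs)]
  obtain ⟨haK, haN⟩ := hconj B.rf B.ff (by rw [B.fe]; exact one_ne_zero) ht'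
  obtain ⟨hbK, hbN⟩ := hconj B.y_rat B.y_iso (by rw [B.y_e]; exact B.mu_ne) ht''
  -- the odd order elements fixing the point are scalar
  obtain ⟨w, hwG, hwP, hw⟩ := exists_elation B S h2
  have hwK := mem_of_pres O hwP hwG
  have hfix : ∀ n : K, n ∈ N → (n : GG) * t = t * (n : GG) → ∃ a : F, ((n : GG) : Mn) = a • 1 := by
    intro n hn hnt
    have hX := isT_conj (O.le n.2) ht
    rw [hnt, mul_inv_cancel_right] at hX
    obtain ⟨l, hl⟩ := line_of_isT_eq (hF := hF) ht hX he0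
    refine scalar_of_fix B h2 hwG hw (O.le n.2) hl (hodd hn) ?_
    have hc : n * ⟨w, hwK⟩ * n⁻¹ * (⟨w, hwK⟩ : K)⁻¹ ∈ N := by
      have h1 := N.mul_mem hn (Subgroup.Normal.conj_mem inferInstance n⁻¹ (N.inv_mem hn) ⟨w, hwK⟩)
      simpa [mul_assoc] using h1
    simpa only [Subgroup.coe_mul, InvMemClass.coe_inv] using hodd hc
  have hab := fun x y hx hy => comm_scalar h2 N htK htt hfix (x := x) (z := y) hx hy
  set A : Mn := ((t * t' : GG) : Mn) with hA
  set B' : Mn := ((t * t'' : GG) : Mn) with hB'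
  have hPA : Pres F₀ P (t * t') := (pres_isT S he F₀.one_mem ht).mul (pres_isT S B.rf F₀.one_mem ht')
  have hPB : Pres F₀ P (t * t'') := (pres_isT S he F₀.one_mem ht).mul (pres_isT S B.y_rat F₀.one_mem ht'')
  have htv : ∀ v, (t : Mn) *ᵥ ((t : Mn) *ᵥ v) = v := fun v => by
    rw [Matrix.mulVec_mulVec, ← Units.val_mul, htt, Units.val_one, Matrix.one_mulVec]
  have hAc : A *ᵥ c = c := by
    rw [hA, Units.val_mul, ← Matrix.mulVec_mulVec, ht', B.cf, mul_zero, zero_smul, add_zero, ht, B.ce,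
      mul_zero, zero_smul, add_zero]
  have hAfix : ∀ v, A *ᵥ v = v → v = (h v c / h c c) • c := fun v hv => by
    rw [hA, Units.val_mul, ← Matrix.mulVec_mulVec] at hv
    have e1 : (t' : Mn) *ᵥ v = (t : Mn) *ᵥ v := by
      conv_rhs => rw [← hv]
      rw [htv]
    rw [ht', ht, add_left_cancel_iff, one_mul, one_mul] at e1
    have e2 := congrArg (fun z => h z f) e1
    have e3 := congrArg (fun z => h z e) e1
    simp only [h_smul_left, B.ef, B.fe, B.ee, B.ff, mul_one, mul_zero] at e2 e3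
    have := expand (hF := hF) B.cc B.ee B.ff B.ef B.ec B.fc v
    rwa [← e2, e3, zero_smul, zero_smul, add_zero, add_zero] at this
  have hAu : Function.Injective (A *ᵥ ·) := mat_inj _
  have hBu : Function.Injective (B' *ᵥ ·) := mat_inj _
  obtain ⟨ζ, hζ⟩ : ∃ ζ : F, A * B' = ζ • (B' * A) := hab ⟨_, haK⟩ ⟨_, hbK⟩ haN hbN
  have hdet : ∀ {g : GG}, g ∈ K → (g : Mn).det = 1 := fun hg => by
    simpa using congrArg Units.val (MonoidHom.mem_ker.1 (O.le hg).2)
  have hcube : ∀ {χ : F} {g g' : GG}, g ∈ K → g' ∈ K →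
      (g : Mn) * (g' : Mn) = χ • ((g' : Mn) * (g : Mn)) → χ ^ 3 = 1 := by
    intro χ g g' hg hg' e1
    have := congrArg Matrix.det e1
    rw [Matrix.det_smul, Matrix.det_mul, Matrix.det_mul, hdet hg, hdet hg', Fintype.card_fin, mul_one,
      mul_one] at this
    exact this.symm
  have hζ3 : ζ ^ 3 = 1 := hcube haK hbK hζ
  have hζ1 : ζ ≠ 1 := fun e1 => by
    rw [e1, one_smul] at hζ
    have h3 := hAfix _ (show A *ᵥ (B' *ᵥ c) = B' *ᵥ c by
      rw [Matrix.mulVec_mulVec, hζ, ← Matrix.mulVec_mulVec, hAc])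
    set ν := h (B' *ᵥ c) c / h c c
    have hcy : h c y = σ (h c c) := by rw [← h_swap hF, B.y_c]
    rw [hB', Units.val_mul, ← Matrix.mulVec_mulVec, ht'', Matrix.mulVec_add, Matrix.mulVec_smul, one_mul,
      hcy, show (t : Mn) *ᵥ c = c by rw [ht, B.ce, mul_zero, zero_smul, add_zero]] at h3
    have hty : h ((t : Mn) *ᵥ y) ((t : Mn) *ᵥ y) = 0 := by rw [G_isometry (O.le htK)]; exact B.y_iso
    have h4 : σ (h c c) • ((t : Mn) *ᵥ y) = (ν - 1) • c := by rw [sub_smul, one_smul, ← h3]; abel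
    have hν : ν - 1 = 0 := by
      have := congrArg (fun z => h z z) h4
      simp only [h_smul_left, h_smul_right hF, hty, mul_zero] at this
      rcases mul_eq_zero.1 this.symm with e2 | e2
      · exact (map_eq_zero _).1 e2
      · rcases mul_eq_zero.1 e2 with e3 | e3
        · exact e3
        · exact absurd e3 B.cc
    rw [hν, zero_smul, smul_eq_zero, map_eq_zero] at h4
    exact B.y_ne (mat_inj t (by
      show (t : Mn) *ᵥ y = (t : Mn) *ᵥ 0
      rw [h4.resolve_left B.cc, Matrix.mulVec_zero]))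
  have hζs : ζ * ζ + ζ + 1 = 0 :=
    (mul_eq_zero.1 (show (ζ - 1) * (ζ * ζ + ζ + 1) = 0 by linear_combination hζ3)).resolve_left
      (sub_ne_zero.2 hζ1)
  -- the commutant
  have hcomm : ∀ M : Mn, M * A = A * M → M * B' = B' * M → ∃ ν : F, M = ν • 1 := by
    intro M hMA hMB
    obtain ⟨ν, hν⟩ : ∃ ν : F, M *ᵥ c = ν • c := ⟨_, hAfix _ (by
      rw [Matrix.mulVec_mulVec, ← hMA, ← Matrix.mulVec_mulVec, hAc])⟩
    exact ⟨ν, eq_smul_one hζ hζ3 hζ1 hAu hBu (ne_zero_of_h_ne hF B.cc) hAc hν hMB⟩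
  -- every element of the core
  have hN : ∀ n : K, n ∈ N → ∃ (l : F) (v : V), IsR F₀ P v ∧ ((n : GG) : Mn) *ᵥ e = l • v := by
    intro n hn
    obtain ⟨χ, hχ⟩ : ∃ χ : F, ((n : GG) : Mn) * A = χ • (A * ((n : GG) : Mn)) := hab n ⟨_, haK⟩ hn haN
    obtain ⟨χ', hχ'⟩ : ∃ χ' : F, ((n : GG) : Mn) * B' = χ' • (B' * ((n : GG) : Mn)) :=
      hab n ⟨_, hbK⟩ hn hbN
    have hroot : ∀ {x : F}, x ^ 3 = 1 → ∃ i : ℕ, x = ζ ^ i := fun {x} hx => by
      rcases mul_eq_zero.1 (show (x - 1) * ((x - ζ) * (x - ζ ^ 2)) = 0 by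
        linear_combination hx + (-x ^ 2 + x) * hζs + (x - 1) * hζ3) with e1 | e1
      · exact ⟨0, by rw [pow_zero]; exact sub_eq_zero.1 e1⟩
      rcases mul_eq_zero.1 e1 with e1 | e1
      · exact ⟨1, by rw [pow_one]; exact sub_eq_zero.1 e1⟩
      · exact ⟨2, sub_eq_zero.1 e1⟩
    obtain ⟨i, hi⟩ := hroot (hcube n.2 haK hχ)
    obtain ⟨j, hj⟩ := hroot (hcube n.2 hbK hχ')
    have hBA : B' * A = ζ ^ 2 • (A * B') := by
      rw [hζ, smul_smul, ← pow_succ, hζ3, one_smul]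
    have hp1 : ∀ m : ℕ, B' ^ m * A = ζ ^ (2 * m) • (A * B' ^ m) := fun m => by
      induction m with
      | zero => simp
      | succ m ih =>
        rw [pow_succ, Matrix.mul_assoc, hBA, Matrix.mul_smul, ← Matrix.mul_assoc, ih, Matrix.smul_mul,
          smul_smul, Matrix.mul_assoc, ← pow_succ, ← pow_add, show 2 + 2 * m = 2 * (m + 1) by ring]
    have hp2 : ∀ m : ℕ, A ^ m * B' = ζ ^ m • (B' * A ^ m) := fun m => by
      induction m with
      | zero => simp
      | succ m ih =>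
        rw [pow_succ, Matrix.mul_assoc, hζ, Matrix.mul_smul, ← Matrix.mul_assoc, ih, Matrix.smul_mul,
          smul_smul, Matrix.mul_assoc, ← pow_succ, ← pow_succ']
    set X := A ^ (2 * j) * B' ^ i
    obtain ⟨ν, hν⟩ := hcomm (((n : GG) : Mn) * X) (by
      show ((n : GG) : Mn) * (A ^ (2 * j) * B' ^ i) * A = A * (((n : GG) : Mn) * X)
      rw [Matrix.mul_assoc _ _ A, Matrix.mul_assoc (A ^ (2 * j)), hp1, Matrix.mul_smul, ← Matrix.mul_assoc _ A,
        ← pow_succ, pow_succ', Matrix.mul_assoc A, Matrix.mul_smul, ← Matrix.mul_assoc _ A, hχ,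
        Matrix.smul_mul, smul_smul, Matrix.mul_assoc A, hi, ← pow_add,
        show 2 * i + i = 3 * i by ring, pow_mul, hζ3, one_pow, one_smul]) (by
      show ((n : GG) : Mn) * (A ^ (2 * j) * B' ^ i) * B' = B' * (((n : GG) : Mn) * X)
      rw [Matrix.mul_assoc _ _ B', Matrix.mul_assoc (A ^ (2 * j)), ← pow_succ, pow_succ',
        ← Matrix.mul_assoc (A ^ (2 * j)), hp2, Matrix.smul_mul, Matrix.mul_smul, Matrix.mul_assoc B',
        ← Matrix.mul_assoc _ B', hχ', Matrix.smul_mul, smul_smul, Matrix.mul_assoc B', hj, ← pow_add,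
        show 2 * j + j = 3 * j by ring, pow_mul, hζ3, one_pow, one_smul])
    set g : GG := (t * t') ^ (2 * j) * (t * t'') ^ i
    have hg : (g : Mn) = X := by
      rw [Units.val_mul, Units.val_pow_eq_pow_val, Units.val_pow_eq_pow_val]
    refine ⟨ν, _, ((hPA.pow (2 * j)).mul (hPB.pow i)).inv e he, ?_⟩
    have e1 : ((n : GG) : Mn) = ν • ((g⁻¹ : GG) : Mn) := by
      rw [← hg] at hν
      have := congrArg (fun M => M * ((g⁻¹ : GG) : Mn)) hν
      simp only [Matrix.mul_assoc, Units.mul_inv, Matrix.mul_one, Matrix.smul_mul, Matrix.one_mul] at this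
      exact this
    rw [e1, Matrix.smul_mulVec]
  -- decomposition
  have h1 := hZ ⟨k, hk⟩
  set u : GG := k * t * k⁻¹ * t⁻¹ with hu
  have htinv : t⁻¹ = t := inv_eq_of_mul_eq_one_left htt
  obtain ⟨j, hj⟩ : Odd (orderOf u) := by
    have := hodd h1
    simpa only [Subgroup.coe_mul, InvMemClass.coe_inv] using this
  have hk2 : k * t * k⁻¹ * (k * t * k⁻¹) = 1 := by
    rw [show k * t * k⁻¹ * (k * t * k⁻¹) = k * (t * t) * k⁻¹ by group, htt, mul_one, mul_inv_cancel]
  have hsemi : SemiconjBy t u u⁻¹ := by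
    show t * u = u⁻¹ * t
    rw [hu, _root_.mul_inv_rev, inv_inv, inv_eq_of_mul_eq_one_left hk2, htinv]
    simp only [mul_assoc]
  set n : GG := u ^ (j + 1)
  have hn : n * t * n⁻¹ = k * t * k⁻¹ := by
    rw [mul_inv_eq_iff_eq_mul]
    have e1 : t * n = n⁻¹ * t := by
      have := (hsemi.pow_right (j + 1)).eq
      rwa [inv_pow] at this
    have e2 : n * n = u := by
      rw [← pow_add, show j + 1 + (j + 1) = orderOf u + 1 by omega, pow_succ, pow_orderOf_eq_one, one_mul]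
    have e3 : k * t * k⁻¹ = u * t := by rw [hu, inv_mul_cancel_right]
    rw [e3, ← e2, mul_assoc (n * n), e1, mul_assoc n n, mul_inv_cancel_left]
  have hnN : ∃ hm : n ∈ K, (⟨n, hm⟩ : K) ∈ N :=
    ⟨pow_mem (mul_mem (mul_mem (mul_mem hk htK) (inv_mem hk)) (inv_mem htK)) _, by
      have := N.pow_mem h1 (j + 1)
      convert this using 1
      exact Subtype.ext (by rw [Subgroup.coe_pow, Subgroup.coe_mul, Subgroup.coe_mul, Subgroup.coe_mul,
        Subgroup.coe_inv, Subgroup.coe_inv])⟩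
  obtain ⟨hnK, hnN⟩ := hnN
  have T1 := isT_conj (O.le hnK) ht
  have T2 := isT_conj (O.le hk) ht
  rw [hn] at T1
  obtain ⟨l, hl⟩ := line_of_isT_eq (hF := hF) T1 T2 (fun e1 => he0 (mat_inj n (by
    show (n : Mn) *ᵥ e = (n : Mn) *ᵥ 0
    rw [e1, Matrix.mulVec_zero])))
  obtain ⟨l', v, hv, hlv⟩ := hN ⟨n, hnK⟩ hnN
  exact ⟨l * l', v, hv, by rw [hl, hlv, smul_smul]⟩

end CfsgLib.MaxSub.SU3Max.Sub
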