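/-
Subfield subgroups of odd prime index are maximal in `SU_3(q)`.
-/
import Cfsg.Agent.Lib.MaxSub.SU3Max.Subfield.Plane
import Cfsg.Agent.Lib.MaxSub.SU3Max.Subfield.Two
import Cfsg.Agent.Lib.MaxSub.PlaneGeneration

set_option autoImplicit false
set_option maxHeartbeats 1000000
set_option linter.unusedSectionVars false

namespace CfsgLib.MaxSub.SU3Max.Sub

open Matrix Module Cfsg Cfsg.Geo CfsgLib.UnitaryTransvection CfsgLib.MaxSub.Rational
open CfsgLib.MaxSub.PairSU (IsT InT gl_ext exists_T)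
open CfsgLib.MaxSub.SubfieldGU (RU IsR fixedField E₀ h_rat kap_ne kap_mem kap_skew kap_sq kap_mul_skew isT_conj)
open CfsgLib.Dickson (up lo)

variable {F : Type*} [Field F] [Fintype F] {q : ℕ} {hF : Fintype.card F = q ^ 2} {F₀ : Subfield F}
  {P : GL (Fin 3) F} {θ : F} {K : Subgroup (GL (Fin 3) F)} {r : ℕ}

local notation "V" => Fin 3 → F
local notation "h" => Cfsg.hermForm 3 F q
local notation "σ" => frob hF
local notation "Mn" => Matrix (Fin 3) (Fin 3) F
local notation "GG" => GL (Fin 3) F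
local notation "G" => Cfsg.GU 3 F q ⊓ specialLinear (Fin 3) F
local notation "E" => fixedField (hF := hF)
local notation "κ" => (θ - frob hF θ)

section plane

variable {e x z : Fin 3 → F} {d : F}

/-- The group induced on the plane of `e` and `e₂`. -/
def planeGroup (hF : Fintype.card F = q ^ 2) (K : Subgroup (GL (Fin 3) F)) (e e₂ z : Fin 3 → F) :
    Subgroup (Matrix.SpecialLinearGroup (Fin 2) (fixedField (hF := hF) : Subfield F)) where
  carrier := {k | ∃ y ∈ K, (y : Mn) *ᵥ z = z ∧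
    (y : Mn) *ᵥ e = (k.1 0 0 : F) • e + (k.1 1 0 : F) • e₂ ∧
    (y : Mn) *ᵥ e₂ = (k.1 0 1 : F) • e + (k.1 1 1 : F) • e₂}
  one_mem' := ⟨1, K.one_mem, by simp, by simp, by simp⟩
  mul_mem' := by
    rintro k k' ⟨y, hy, hz, e1, e2⟩ ⟨y', hy', hz', e1', e2'⟩
    refine ⟨y * y', K.mul_mem hy hy', ?_, ?_, ?_⟩
    · rw [Units.val_mul, ← Matrix.mulVec_mulVec, hz', hz]
    · rw [Units.val_mul, ← Matrix.mulVec_mulVec, e1', Matrix.mulVec_add, Matrix.mulVec_smul,
        Matrix.mulVec_smul, e1, e2, Dickson.mul_entry, Dickson.mul_entry]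
      push_cast
      module
    · rw [Units.val_mul, ← Matrix.mulVec_mulVec, e2', Matrix.mulVec_add, Matrix.mulVec_smul,
        Matrix.mulVec_smul, e1, e2, Dickson.mul_entry, Dickson.mul_entry]
      push_cast
      module
  inv_mem' := by
    rintro k ⟨y, hy, hz, e1, e2⟩
    obtain ⟨i00, i01, i10, i11⟩ := Dickson.inv_entries k
    have hd : (k.1 0 0 : F) * (k.1 1 1 : F) - (k.1 0 1 : F) * (k.1 1 0 : F) = 1 := by
      exact_mod_cast congrArg (Subtype.val) (Dickson.det_eq k)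
    have hfin : ∀ v : V, ((y⁻¹ : GG) : Mn) *ᵥ ((y : Mn) *ᵥ v) = v := fun v => by
      rw [Matrix.mulVec_mulVec, Units.inv_mul, Matrix.one_mulVec]
    refine ⟨y⁻¹, K.inv_mem hy, ?_, ?_, ?_⟩
    · conv_lhs => rw [← hz]
      exact hfin _
    · rw [i00, i10, Subfield.coe_neg]
      conv_lhs => rw [show e = (y : Mn) *ᵥ ((k.1 1 1 : F) • e + (-(k.1 1 0 : F)) • e₂) by
        rw [Matrix.mulVec_add, Matrix.mulVec_smul, Matrix.mulVec_smul, e1, e2]
        match_scalars <;> first | linear_combination hd | linear_combination -hd | ring]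
      exact hfin _
    · rw [i01, i11, Subfield.coe_neg]
      conv_lhs => rw [show e₂ = (y : Mn) *ᵥ ((-(k.1 0 1 : F)) • e + (k.1 0 0 : F) • e₂) by
        rw [Matrix.mulVec_add, Matrix.mulVec_smul, Matrix.mulVec_smul, e1, e2]
        match_scalars <;> first | linear_combination hd | linear_combination -hd | ring]
      exact hfin _

theorem mem_planeGroup {e₂ : V} {k : Matrix.SpecialLinearGroup (Fin 2) (E : Subfield F)} :
    k ∈ planeGroup hF K e e₂ z ↔ ∃ y ∈ K, (y : Mn) *ᵥ z = z ∧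
      (y : Mn) *ᵥ e = (k.1 0 0 : F) • e + (k.1 1 0 : F) • e₂ ∧
      (y : Mn) *ᵥ e₂ = (k.1 0 1 : F) • e + (k.1 1 1 : F) • e₂ := Iff.rfl

theorem lo_mem (hee : h e e = 0) (hxx : h x x = 0) (hd : h e x = d) (hzx : h z x = 0)
    (hT : InT q K x κ) : lo 1 ∈ planeGroup hF K e ((κ * d) • x) z := by
  obtain ⟨y, hy, e'⟩ := hT
  refine ⟨y, hy, ?_, ?_, ?_⟩
  · rw [e' z, hzx, mul_zero, zero_smul, add_zero]
  · rw [e' e, hd]; simp
  · rw [e', h_smul_left, hxx]; simp

theorem up_mem (hee : h e e = 0) (hd : h e x = d) (hze : h z e = 0) {cc : F} (hT : InT q K e cc)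
    (b : (E : Subfield F)) (hb : (b : F) = cc * (κ * (d * σ d))) :
    up b ∈ planeGroup hF K e ((κ * d) • x) z := by
  obtain ⟨y, hy, e'⟩ := hT
  refine ⟨y, hy, ?_, ?_, ?_⟩
  · rw [e' z, hze, mul_zero, zero_smul, add_zero]
  · rw [e' e, hee]; simp
  · rw [e', h_smul_left, show h x e = σ d by rw [← hd, h_swap hF]]
    show _ = ((up b).1 0 1 : F) • e + ((up b).1 1 1 : F) • ((κ * d) • x)
    simp only [up, Matrix.of_apply, Matrix.cons_val_zero, Matrix.cons_val_one, Matrix.cons_val']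
    simp [hb]
    module

theorem ctr_of_full (hee : h e e = 0) (hxx : h x x = 0) (hd : h e x = d) (hd0 : d ≠ 0) (hze : h z e = 0)
    (hzx : h z x = 0) (hzz : h z z ≠ 0) (hκ : κ ≠ 0)
    (hfull : ∀ b, up b ∈ planeGroup hF K e ((κ * d) • x) z) : Ctr hF K e := by
  refine PairSU.ctr_of_inT fun cc hcc => ?_
  have hfix : σ (cc * (κ * (d * σ d))) = cc * (κ * (d * σ d)) := by
    rw [map_mul, map_mul, map_mul, frob_frob hF, kap_skew, eq_neg_of_add_eq_zero_right hcc]; ring
  obtain ⟨y, hy, hyz, hye, hyx⟩ := hfull ⟨_, hfix⟩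
  obtain ⟨T, hTG, hT⟩ := exists_T (hF := hF) hee hcc
  have hxe : h x e = σ d := by rw [← hd, h_swap hF]
  have hσd : σ d ≠ 0 := (map_ne_zero _).2 hd0
  have hx' : ∀ A : Mn, A *ᵥ ((κ * d) • x) = (κ * d) • (A *ᵥ x) := fun A => Matrix.mulVec_smul _ _ _
  simp only [up, Matrix.of_apply, Matrix.cons_val_zero, Matrix.cons_val_one, Matrix.cons_val'] at hye hyx
  simp at hye hyx
  refine ⟨y, hy, ?_⟩
  suffices hyT : y = T by rw [hyT]; exact hT
  refine gl_ext fun v => ?_
  rw [expand (hF := hF) (a' := (σ d)⁻¹ • x) hzz hee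
    (by rw [h_smul_left, h_smul_right hF, hxx, mul_zero, mul_zero])
    (by rw [h_smul_right hF, hd, map_inv₀, frob_frob hF, inv_mul_cancel₀ hd0])
    ((h_eq_zero_swap hF).1 hze)
    (by rw [h_smul_left, (h_eq_zero_swap hF).1 hzx, mul_zero]) v]
  simp only [Matrix.mulVec_add, Matrix.mulVec_smul]
  have e1 : (y : Mn) *ᵥ e = (T : Mn) *ᵥ e := by rw [hT e, hee, hye]; simp
  have e2 : (y : Mn) *ᵥ z = (T : Mn) *ᵥ z := by rw [hT z, hze, hyz]; simp
  have e3 : (y : Mn) *ᵥ x = (T : Mn) *ᵥ x := by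
    refine smul_right_injective V (mul_ne_zero hκ hd0) ?_
    show (κ * d) • ((y : Mn) *ᵥ x) = (κ * d) • ((T : Mn) *ᵥ x)
    rw [← hx', hyx, hT x, hxe, smul_add, smul_smul]
    module
  rw [e1, e2, e3]

end plane

theorem top_of_over (O : Over hF F₀ P θ r K) (hq : 3 ≤ q) {g : GG} (hgK : g ∈ K)
    (hgS : g ∉ subfieldSubgroup F₀ P) : G ≤ K := by
  classical
  have S := O.str
  obtain ⟨u, hu, huu, hmov⟩ := exists_moved_pt S (O.le hgK) hgS
  set x := (g : Mn) *ᵥ u with hxdef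
  have hxx : h x x = 0 := by rw [hxdef, G_isometry (O.le hgK), huu]
  have hT : InT q K x κ := by
    obtain ⟨y, hy, hy'⟩ := inT_kap O hu huu F₀.one_mem (map_one _)
    rw [mul_one] at hy'
    exact ⟨_, mul_mem (mul_mem hgK hy) (inv_mem hgK), isT_conj (O.le hgK) hy'⟩
  obtain ⟨e, he, hee, hN⟩ := exists_norm_notin S O.odd O.card hmov
  set d := h e x with hd
  have hd0 : d ≠ 0 := fun e0 => hN (by rw [e0, zero_mul]; exact F₀.zero_mem)
  have he0 : e ≠ 0 := ne_zero_of_h_ne hF hd0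
  obtain ⟨f, c, μ, B⟩ := exists_fr S he hee he0
  set z := c + (-(h c x / d)) • e with hz
  have hze : h z e = 0 := by rw [hz, h_add_left, h_smul_left, B.ce, hee]; ring
  have hzx : h z x = 0 := by rw [hz, h_add_left, h_smul_left, ← hd, neg_mul, div_mul_cancel₀ _ hd0]; ring
  have hzz : h z z ≠ 0 := by
    rw [hz]
    simp only [h_add_left, h_add_right hF, h_smul_left, h_smul_right hF, B.ce, B.ec, hee, mul_zero, add_zero]
    exact B.cc
  have hκ := kap_ne S
  set D := planeGroup hF K e ((κ * d) • x) z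
  have hlo : lo 1 ∈ D := lo_mem hee hxx hd.symm hzx hT
  obtain ⟨β, hβ⟩ : ∃ β : (E : Subfield F), (β : F) = κ * κ * (d * σ d) :=
    ⟨⟨_, (fixedField (hF := hF)).mul_mem kap_sq
      (show σ (d * σ d) = d * σ d by rw [map_mul, frob_frob hF, mul_comm])⟩, rfl⟩
  have hκκ : κ * κ ∈ F₀ := F₀.mul_mem (kap_mem S) (kap_mem S)
  have hβF : β ∉ E₀ hF F₀ := fun hmem => hN (by
    have h1 : (β : F) ∈ F₀ := hmem
    rw [hβ] at h1
    have := F₀.div_mem h1 hκκ
    rwa [mul_div_cancel_left₀ _ (mul_ne_zero hκ hκ)] at this)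
  have hβ0 : β ≠ 0 := fun e0 => hβF (e0 ▸ (E₀ hF F₀).zero_mem)
  have hup : ∀ s ∈ E₀ hF F₀, up (s * β) ∈ D := fun s hs =>
    up_mem hee hd.symm hze (inT_kap O he hee (a := (s : F)) hs s.2) _ (by rw [Subfield.coe_mul, hβ]; ring)
  haveI : Fintype (E : Subfield F) := Fintype.ofFinite _
  obtain ⟨p, hp⟩ := CharP.exists F
  haveI hpE : CharP (E : Subfield F) p := (RingHom.charP_iff _ (fixedField (hF := hF)).subtype.injective p).2 hp
  haveI : Fintype (E₀ hF F₀) := Fintype.ofFinite _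
  haveI : CharP (E₀ hF F₀) p := (RingHom.charP_iff _ (E₀ hF F₀).subtype.injective p).2 inferInstance
  obtain ⟨dd, hpp, hdd⟩ := FiniteField.card (E₀ hF F₀) p
  haveI := Fact.mk hpp
  obtain ⟨ee, -, hee'⟩ := FiniteField.card (E : Subfield F) p
  have hcE : Fintype.card (E : Subfield F) = Nat.card (E₀ hF F₀) ^ r := by
    rw [← Nat.card_eq_fintype_card]; exact SubfieldGU.card_fixed_pow S O.card
  -- a big root group gives everything
  have hbig : p ^ 2 ≤ Nat.card (CfsgLib.Dickson.param D) → G ≤ K := fun hp2 => by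
    refine top_of_rat_ctr O hq he hee he0 (ctr_of_full hee hxx hd.symm hd0 hze hzx hzz hκ fun b => ?_)
    have hgen := Plane.gen_top (B := CfsgLib.Dickson.param D) hlo (fun b hb => hb)
      (fun p' _ hch => by rw [CharP.eq (E : Subfield F) hch hpE]; exact hp2)
      (fun T hTB => SubfieldSL.eq_top_of_mem O.prime hcE (fun s hs => by
        have h1 := hTB _ (hup s hs)
        have h2 := hTB _ (show β ∈ CfsgLib.Dickson.param D from (by simpa using hup 1 (E₀ hF F₀).one_mem : up β ∈ D))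
        have := T.div_mem h1 h2
        rwa [mul_div_cancel_right₀ _ hβ0] at this)
        (hTB _ (show β ∈ CfsgLib.Dickson.param D from (by simpa using hup 1 (E₀ hF F₀).one_mem : up β ∈ D))) hβF) (up b)
    rcases hgen with h1 | h1
    · exact h1
    · exact PSU3Min.up_mem_of_mk p ⟨_, h1, DicksonFull.mk_neg _⟩
  -- one irrational parameter is enough
  have hmore : ∀ b, up b ∈ D → (∀ s ∈ E₀ hF F₀, b ≠ s * β) → G ≤ K := fun b hb hbs => hbig (by
    have h1 : Nat.card (CfsgLib.Dickson.param D) ∣ p ^ (ee : ℕ) := by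
      rw [← hee', ← Nat.card_eq_fintype_card]
      exact AddSubgroup.card_addSubgroup_dvd_card _
    obtain ⟨i, -, hi⟩ := (Nat.dvd_prime_pow hpp).1 h1
    have h2 : p < Nat.card (CfsgLib.Dickson.param D) := by
      haveI : Fintype (CfsgLib.Dickson.param D) := Fintype.ofFinite _
      refine lt_of_le_of_lt (show p ≤ Fintype.card (E₀ hF F₀) from ?_) ?_
      · rw [hdd]; exact Nat.le_self_pow dd.ne_zero p
      rw [Nat.card_eq_fintype_card]
      refine Fintype.card_lt_of_injective_of_notMem (fun s : E₀ hF F₀ =>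
        (⟨_, hup s s.2⟩ : CfsgLib.Dickson.param D)) (fun s s' e' => Subtype.ext
          (mul_right_cancel₀ hβ0 (congrArg Subtype.val e'))) (b := ⟨b, hb⟩) ?_
      rintro ⟨s, e'⟩
      exact hbs s s.2 (congrArg Subtype.val e').symm
    rw [hi] at h2 ⊢
    refine Nat.pow_le_pow_right hpp.pos ?_
    by_contra h3
    have h4 := Nat.pow_le_pow_right hpp.pos (show i ≤ 1 by omega)
    rw [pow_one] at h4
    omega)
  by_cases hd2 : 2 ≤ (dd : ℕ)
  · refine hbig ((Nat.pow_le_pow_right hpp.pos hd2).trans ?_)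
    rw [← hdd, ← Nat.card_eq_fintype_card]
    exact Nat.card_le_card_of_injective (fun s : E₀ hF F₀ =>
      (⟨_, hup s s.2⟩ : CfsgLib.Dickson.param D))
      fun s s' e' => Subtype.ext (mul_right_cancel₀ hβ0 (congrArg Subtype.val e'))
  have hdd1 : Nat.card (E₀ hF F₀) = p := by
    rw [Nat.card_eq_fintype_card, hdd, show (dd : ℕ) = 1 by have := dd.pos; omega, pow_one]
  rcases eq_or_ne p 2 with rfl | hp2
  swap
  · obtain ⟨b, hb, hbs⟩ := exists_more (L := (E : Subfield F)) p hp2 O.odd (by rw [hcE, hdd1])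
      (S := E₀ hF F₀) hdd1 (β := β) hβF hlo (by simpa using hup 1 (E₀ hF F₀).one_mem)
    exact hmore b hb hbs
  have h2F : (2 : F) = 0 := CharP.cast_eq_zero F 2
  by_contra hne
  have huniq : ∀ cc : F, InT q K e cc → cc + σ cc = 0 → cc ∈ F₀ := by
    intro cc hcc hs
    by_contra hccF
    refine hne (hmore ⟨cc * (κ * (d * σ d)), ?_⟩ (up_mem hee hd.symm hze hcc _ rfl) fun s hs' e' => hccF ?_)
    · show σ _ = _
      rw [map_mul, map_mul, map_mul, frob_frob hF, kap_skew, eq_neg_of_add_eq_zero_right hs]; ring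
    · have e'' := congrArg Subtype.val e'
      rw [Subfield.coe_mul, hβ] at e''
      have : cc = (s : F) * κ :=
        mul_right_cancel₀ (mul_ne_zero hκ (mul_ne_zero hd0 ((map_ne_zero _).2 hd0)))
          (by linear_combination e'')
      rw [this]
      exact F₀.mul_mem hs' (kap_mem S)
  have hq0 : ∀ a ∈ F₀, σ a = a → a = 0 ∨ a = 1 := by
    intro a ha hs
    have h1 := congrArg (fun w : E₀ hF F₀ => ((w : (E : Subfield F)) : F))
      (FiniteField.pow_card (⟨⟨a, hs⟩, ha⟩ : E₀ hF F₀))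
    rw [← Nat.card_eq_fintype_card, hdd1] at h1
    simp only [SubmonoidClass.coe_pow] at h1
    rcases mul_eq_zero.1 (show a * (a - 1) = 0 by linear_combination h1) with e1 | e1
    exacts [Or.inl e1, Or.inr (sub_eq_zero.1 e1)]
  have hrat := fun {k : GG} (hk : k ∈ K) => rat_of_uniq O h2F hq0 he hee he0 huniq hk
  by_cases hue : h u e = 0
  · obtain ⟨t, rfl⟩ := exists_smul_of_perp (hF := hF) huu hee he0 hue
    obtain ⟨l, v, hv, hl⟩ := hrat hgK
    refine hmov (t * l) v hv ?_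
    rw [hxdef, Matrix.mulVec_smul, hl, smul_smul]
  · obtain ⟨k, hk, l, hl0, hkl⟩ := exists_swap O he hee hu huu hue
    obtain ⟨l', v, hv, hl⟩ := hrat (mul_mem hgK hk)
    refine hmov (l⁻¹ * l') v hv ?_
    rw [Units.val_mul, ← Matrix.mulVec_mulVec, hkl, Matrix.mulVec_smul] at hl
    rw [← smul_smul, ← hl, smul_smul, inv_mul_cancel₀ hl0, one_smul]

/-- Subfield subgroups of odd prime index are maximal in `SU_3(q)`. -/
theorem su3_subfield_maximal (hq : 3 ≤ q) (hF : Fintype.card F = q ^ 2) {r : ℕ} (hr : r.Prime)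
    (hro : Odd r) (hc : Fintype.card F = Nat.card F₀ ^ r)
    (hP : IsFormRationalStructure (Cfsg.hermForm 3 F q) F₀ 1 P) :
    IsMaximalIn G (subfieldSubgroup F₀ P ⊓ G) := by
  obtain ⟨θ, hθ, hmv⟩ : ∃ θ ∈ F₀, frob hF θ ≠ θ := by
    by_contra hcon
    push Not at hcon
    haveI : Fintype F₀ := Fintype.ofFinite _
    haveI : Fintype (fixedField (hF := hF)) := Fintype.ofFinite _
    let ι : F₀ →+* (fixedField (hF := hF) : Subfield F) :=
      F₀.subtype.codRestrict _ fun x => hcon x x.2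
    letI : Algebra F₀ (fixedField (hF := hF) : Subfield F) := ι.toAlgebra
    obtain ⟨e, he⟩ : ∃ e, Fintype.card (fixedField (hF := hF) : Subfield F) = Fintype.card F₀ ^ e :=
      ⟨_, Module.card_eq_pow_finrank⟩
    obtain ⟨x, hx⟩ : ∃ x : F, frob hF x ≠ x := by
      by_contra hall
      push Not at hall
      exact frob_ne_id hF (RingHom.ext hall)
    have hq : Nat.card (fixedField (hF := hF) : Subfield F) = q :=
      (SubfieldGU.card_fixedField (n := 3) (hF := hF) (F₀ := ⊤) (P := P) (θ := x)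
        ⟨fun _ _ _ _ => Subfield.mem_top _, Subfield.mem_top _, hx⟩).1
    rw [Nat.card_eq_fintype_card] at hq
    rw [hF, Nat.card_eq_fintype_card (α := F₀), ← hq, he, ← pow_mul] at hc
    have := Nat.pow_right_injective (Fintype.one_lt_card : 1 < Fintype.card F₀) hc
    rcases hro with ⟨j, hj⟩
    omega
  refine ⟨lt_of_le_of_ne inf_le_right fun e => ?_, fun M hle hMG => ?_⟩
  · exact CfsgLib.Aschbacher.not_SU_le_subfield hF (by omega) hr hc P
      (show G ≤ _ from e.ge.trans inf_le_left)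
  by_cases hKH : M ≤ subfieldSubgroup F₀ P
  · exact Or.inl (le_antisymm (le_inf hKH hMG) hle)
  have O : Over hF F₀ P θ r M := ⟨⟨hP, hθ, hmv⟩, hr, hro, hc, hMG, hle⟩
  obtain ⟨g, hgK, hgS⟩ := SetLike.not_le_iff_exists.1 hKH
  exact Or.inr (le_antisymm hMG (top_of_over O hq hgK hgS))

end CfsgLib.MaxSub.SU3Max.Sub
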